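/-
The element orders of `PSp₄(q)`: every order divides one of the listed numbers.

Main results (namespace `Cfsg.Agent.SpecPSpFour`):
* `dd`, `Spec`       : the divisor set
* `mem_spec_of_pow`  : membership from a killing exponent
* `orderOf_mem_spec` : the upper bound for `PSp₄`
-/
import Cfsg.Agent.EqLemmas
import Cfsg.Agent.Lib.GLOrder.Symplectic
import Cfsg.Agent.Lib.GLOrder.RootOrder

set_option autoImplicit false
set_option linter.unusedSectionVars false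

namespace Cfsg.Agent.SpecPSpFour

open Polynomial Matrix

/-- The order of the centre of `Sp₄` over a field of characteristic `p`. -/
def dd (p : ℕ) : ℕ := if p = 2 then 1 else 2

/-- The divisors of the maximal element orders. -/
def Spec (p q : ℕ) : Set ℕ :=
  {n | n ∣ (q ^ 2 + 1) / dd p ∨ n ∣ (q ^ 2 - 1) / dd p ∨ n ∣ p * (q + 1) ∨ n ∣ p * (q - 1) ∨
    (p = 2 ∧ n ∣ 4) ∨ (p = 3 ∧ n ∣ 9)}

theorem dvd_mem_spec {p q a b : ℕ} (h : b ∈ Spec p q) (hab : a ∣ b) : a ∈ Spec p q := by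
  rcases h with h | h | h | h | ⟨h', h⟩ | ⟨h', h⟩
  · exact Or.inl (hab.trans h)
  · exact Or.inr (Or.inl (hab.trans h))
  · exact Or.inr (Or.inr (Or.inl (hab.trans h)))
  · exact Or.inr (Or.inr (Or.inr (Or.inl (hab.trans h))))
  · exact Or.inr (Or.inr (Or.inr (Or.inr (Or.inl ⟨h', hab.trans h⟩))))
  · exact Or.inr (Or.inr (Or.inr (Or.inr (Or.inr ⟨h', hab.trans h⟩))))

theorem mem_spec_of_pow {p q N : ℕ} {G : Type*} [Group G] {x : G} (hN : N ∈ Spec p q) (h : x ^ N = 1) :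
    orderOf x ∈ Spec p q :=
  dvd_mem_spec hN (orderOf_dvd_of_pow_eq_one h)

theorem mem_spec₁ {p q : ℕ} : (q ^ 2 + 1) / dd p ∈ Spec p q := Or.inl dvd_rfl

theorem mem_spec₂ {p q : ℕ} : (q ^ 2 - 1) / dd p ∈ Spec p q := Or.inr (Or.inl dvd_rfl)

theorem mem_spec₃ {p q m : ℕ} (hm : m = q + 1 ∨ m = q - 1) : p * m ∈ Spec p q := by
  rcases hm with rfl | rfl
  · exact Or.inr (Or.inr (Or.inl dvd_rfl))
  · exact Or.inr (Or.inr (Or.inr (Or.inl dvd_rfl)))

theorem mem_spec₄ {q : ℕ} : 4 ∈ Spec 2 q :=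
  Or.inr (Or.inr (Or.inr (Or.inr (Or.inl ⟨rfl, dvd_rfl⟩))))

theorem mem_spec₉ {q : ℕ} : 9 ∈ Spec 3 q :=
  Or.inr (Or.inr (Or.inr (Or.inr (Or.inr ⟨rfl, dvd_rfl⟩))))

section card

variable {F : Type*} [Field F] [Fintype F] (p : ℕ) [Fact p.Prime] [CharP F p]

theorem card_eq_pow : ∃ f : ℕ, 1 ≤ f ∧ Fintype.card F = p ^ f := by
  obtain ⟨f, -, hf⟩ := FiniteField.card F p
  exact ⟨f, f.pos, hf⟩

theorem dd_dvd : dd p ∣ Fintype.card F - 1 ∧ dd p ∣ Fintype.card F + 1 ∧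
    dd p ∣ Fintype.card F ^ 2 - 1 ∧ dd p ∣ Fintype.card F ^ 2 + 1 := by
  unfold dd
  split_ifs with hp
  · simp
  obtain ⟨f, -, hf⟩ := card_eq_pow (F := F) p
  have hodd : Fintype.card F % 2 = 1 := by
    rw [← Nat.odd_iff, hf]; exact ((Fact.out : p.Prime).odd_of_ne_two hp).pow
  have hodd2 : Fintype.card F ^ 2 % 2 = 1 := by rw [Nat.pow_mod, hodd]
  refine ⟨?_, ?_, ?_, ?_⟩ <;> omega

end card

/-- Roots of a monic quadratic with constant term one. -/
theorem exists_pair {K : Type*} [Field K] [IsAlgClosed K] (s : K) :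
    ∃ a : K, a ≠ 0 ∧ s = a + a⁻¹ ∧ (X ^ 2 - C s * X + 1 : K[X]) = (X - C a) * (X - C a⁻¹) := by
  obtain ⟨a, ha⟩ := IsAlgClosed.exists_root (X ^ 2 - C s * X + 1 : K[X]) (by
    rw [show (X ^ 2 - C s * X + 1 : K[X]) = C 1 * X ^ 2 + C (-s) * X + C 1 by simp; ring,
      degree_quadratic one_ne_zero]
    decide)
  simp at ha
  have ha0 : a ≠ 0 := by rintro rfl; simp at ha
  have hs : s = a + a⁻¹ := by field_simp; linear_combination -ha
  refine ⟨a, ha0, hs, ?_⟩
  have h1 : (1 : K[X]) = C a * C a⁻¹ := by rw [← C_mul, mul_inv_cancel₀ ha0, C_1]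
  rw [hs, C_add, h1]; ring

/-- Two reciprocal roots of unity give a factor of the square. -/
theorem pair_dvd_sq {K : Type*} [Field K] {a : K} {P : K[X]} (ha : P.IsRoot a) (hb : P.IsRoot a⁻¹) :
    (X - C a) * (X - C a⁻¹) ∣ P ^ 2 := by
  rw [pow_two]; exact mul_dvd_mul (dvd_iff_isRoot.2 ha) (dvd_iff_isRoot.2 hb)

theorem pair_dvd {K : Type*} [Field K] {a : K} {P : K[X]} (hne : a ≠ a⁻¹) (ha : P.IsRoot a)
    (hb : P.IsRoot a⁻¹) : (X - C a) * (X - C a⁻¹) ∣ P :=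
  IsCoprime.mul_dvd (isCoprime_X_sub_C_of_isUnit_sub (IsUnit.mk0 _ (sub_ne_zero.2 hne)))
    (dvd_iff_isRoot.2 ha) (dvd_iff_isRoot.2 hb)

theorem pairs_coprime {K : Type*} [Field K] {a b : K} (h1 : a ≠ b) (h2 : a ≠ b⁻¹) :
    IsCoprime ((X - C a) * (X - C a⁻¹)) ((X - C b) * (X - C b⁻¹) : K[X]) := by
  have h3 : a⁻¹ ≠ b := fun h => h2 (by rw [← h, inv_inv])
  have h4 : a⁻¹ ≠ b⁻¹ := fun h => h1 (inv_injective h)
  have key : ∀ {x y : K}, x ≠ y → IsCoprime (X - C x) (X - C y) := fun h =>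
    isCoprime_X_sub_C_of_isUnit_sub (IsUnit.mk0 _ (sub_ne_zero.2 h))
  exact ((key h1).mul_right (key h2)).mul_left ((key h3).mul_right (key h4))

section Upper

variable {F : Type*} [Field F] [Fintype F] (p : ℕ) [hp : Fact p.Prime] [CharP F p]

/-- The coefficients of the characteristic polynomial. -/
theorem exists_coeff (A : Matrix.symplecticGroup (Fin 2) F) :
    ∃ a b : F, A.1.charpoly = X ^ 4 + C a * X ^ 3 + C b * X ^ 2 + C a * X + 1 := by
  set P := A.1.charpoly with hP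
  have hdet : A.1.det = 1 := SymplecticGroup.det_eq_one A.2
  have hA : IsUnit A.1 := (Matrix.isUnit_iff_isUnit_det _).2 (by rw [hdet]; exact isUnit_one)
  have hdeg : P.natDegree = 4 := by rw [hP, Matrix.charpoly_natDegree_eq_dim]; rfl
  have h4 : P.coeff 4 = 1 := by rw [← hdeg]; exact A.1.charpoly_monic
  have hu : (-Matrix.J (Fin 2) F) * Matrix.J (Fin 2) F = 1 := by
    rw [neg_mul, Matrix.J_squared, neg_neg]
  have hu' : Matrix.J (Fin 2) F * (-Matrix.J (Fin 2) F) = 1 := by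
    rw [mul_neg, Matrix.J_squared, neg_neg]
  have hinv : (A.1⁻¹).charpoly = P := by
    rw [SymplecticGroup.inv_eq_symplectic_inv A.1 A.2]
    have := Matrix.charpoly_units_conj
      (⟨-Matrix.J (Fin 2) F, Matrix.J (Fin 2) F, hu, hu'⟩ : (Matrix (Fin 2 ⊕ Fin 2) (Fin 2 ⊕ Fin 2) F)ˣ) A.1ᵀ
    rw [← Matrix.coe_units_inv] at this
    exact this.trans (Matrix.charpoly_transpose A.1)
  have hrel : ∀ k ≤ 4, P.coeff k = P.coeff (4 - k) := by
    intro k hk
    have h := congrArg (fun Q : F[X] => Q.coeff k) (hinv.symm.trans (Matrix.charpoly_inv A.1 hA))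
    rw [← Matrix.reverse_charpoly, ← hP, hdet] at h
    have e : (-1 : F[X]) ^ Fintype.card (Fin 2 ⊕ Fin 2) = 1 := by
      simp [show Fintype.card (Fin 2 ⊕ Fin 2) = 4 from rfl]; norm_num
    simp only [e, one_mul, coeff_C_mul, coeff_reverse, hdeg, revAt_le hk, Ring.inverse_one] at h
    exact h
  refine ⟨P.coeff 3, P.coeff 2, ?_⟩
  conv_lhs => rw [as_sum_range_C_mul_X_pow P, hdeg]
  simp only [Finset.sum_range_succ, Finset.sum_range_zero, h4, hrel 0 (by norm_num), hrel 1 (by norm_num),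
    C_1, one_mul, pow_zero, pow_one, mul_one, zero_add]
  ring

/-- A matrix killed by a polynomial `X^N - ε`. -/
theorem pow_eq_of_dvd {K : Type*} [Field K] (φ : F →+* K) (A : Matrix (Fin 2 ⊕ Fin 2) (Fin 2 ⊕ Fin 2) F)
    {N : ℕ} {P : K[X]} (hP : P = X ^ N - 1 ∨ P = X ^ N + 1) (h : (A.charpoly).map φ ∣ P) :
    A ^ N = 1 ∨ A ^ N = -1 := by
  rw [← Matrix.charpoly_map] at h
  obtain ⟨R, hR⟩ := h
  have h0 : aeval (A.map φ) P = 0 := by rw [hR, map_mul, Matrix.aeval_self_charpoly, zero_mul]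
  have hinj : Function.Injective (φ.mapMatrix (m := Fin 2 ⊕ Fin 2)) := fun M M' e =>
    Matrix.map_injective φ.injective e
  rcases hP with rfl | rfl
  · left
    apply hinj
    rw [map_pow, map_one, RingHom.mapMatrix_apply]
    simpa [sub_eq_zero] using h0
  · right
    apply hinj
    rw [map_pow, map_neg, map_one, RingHom.mapMatrix_apply]
    simpa [eq_neg_iff_add_eq_zero] using h0

theorem pow_eq_pm (A : Matrix.symplecticGroup (Fin 2) F) :
    ∃ N ∈ Spec p (Fintype.card F), A.1 ^ N = 1 ∨ A.1 ^ N = -1 := by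
  classical
  obtain ⟨a, b, hP⟩ := exists_coeff A
  set q := Fintype.card F with hq
  have hq1 : 1 < q := Fintype.one_lt_card
  obtain ⟨f, hf1, hqf⟩ := card_eq_pow (F := F) p
  rw [← hq] at hqf
  let K := AlgebraicClosure F
  let φ : F →+* K := algebraMap F K
  haveI : CharP K p := charP_of_injective_ringHom φ.injective p
  let Φ : K →+* K := iterateFrobenius K p f
  have hΦ : ∀ x : K, Φ x = x ^ q := fun x => by rw [hqf]; exact iterateFrobenius_def p f x
  obtain ⟨s, hs⟩ : ∃ s : K, s ^ 2 + φ a * s + (φ b - 2) = 0 := by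
    obtain ⟨s, hs⟩ := IsAlgClosed.exists_root (X ^ 2 + C (φ a) * X + C (φ b - 2) : K[X]) (by
      rw [show (X ^ 2 + C (φ a) * X + C (φ b - 2) : K[X]) = C 1 * X ^ 2 + C (φ a) * X + C (φ b - 2) by simp,
        degree_quadratic one_ne_zero]
      decide)
    exact ⟨s, by simpa using hs⟩
  set r := -φ a - s with hr
  obtain ⟨x, hx0, hsx, hxp⟩ := exists_pair s
  obtain ⟨y, hy0, hry, hyp⟩ := exists_pair r
  have hQ : A.1.charpoly.map φ = ((X - C x) * (X - C x⁻¹)) * ((X - C y) * (X - C y⁻¹)) := by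
    rw [← hxp, ← hyp, hP]
    have e1 : C s + C r + C (φ a) = 0 := by rw [← C_add, ← C_add, hr]; simp
    have e2 : C s * C r + 2 - C (φ b) = 0 := by
      rw [show (2 : K[X]) = C 2 from (map_ofNat C 2).symm, ← C_mul, ← C_add, ← C_sub, hr]
      rw [C_eq_zero]; linear_combination -hs
    simp only [Polynomial.map_add, Polynomial.map_mul, Polynomial.map_pow, map_X, map_C, Polynomial.map_one]
    linear_combination (X ^ 3 + X) * e1 + (-X ^ 2) * e2
  have hfix : ∀ c : F, Φ (φ c) = φ c := fun c => by rw [hΦ, ← map_pow, FiniteField.pow_card]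
  have hroot : Φ s ^ 2 + φ a * Φ s + (φ b - 2) = 0 := by
    have := congrArg Φ hs
    rwa [map_zero, map_add, map_add, map_mul, map_pow, map_sub, hfix, hfix, map_ofNat] at this
  have hsr : Φ s = s ∨ Φ s = r := by
    have h : (Φ s - s) * (Φ s - r) = 0 := by rw [hr]; linear_combination hroot - hs
    rcases mul_eq_zero.1 h with h | h
    · exact Or.inl (sub_eq_zero.1 h)
    · exact Or.inr (sub_eq_zero.1 h)
  -- a reciprocal pair with the same sum
  have hpair : ∀ {u v : K}, u ≠ 0 → v ≠ 0 → u + u⁻¹ = v + v⁻¹ → u = v ∨ u = v⁻¹ := by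
    intro u v hu hv h
    have h' : (u - v) * (u - v⁻¹) = 0 := by
      linear_combination u * h + mul_inv_cancel₀ hv - mul_inv_cancel₀ hu
    rcases mul_eq_zero.1 h' with h' | h'
    · exact Or.inl (sub_eq_zero.1 h')
    · exact Or.inr (sub_eq_zero.1 h')
  have hPx : ∀ {u : K}, u ^ q = u → u ≠ 0 → u ^ (q - 1) = 1 := fun {u} h hu => by
    apply mul_right_cancel₀ hu
    rw [← pow_succ, Nat.sub_add_cancel hq1.le, h, one_mul]
  have hPx' : ∀ {u : K}, u ^ q = u⁻¹ → u ≠ 0 → u ^ (q + 1) = 1 := fun {u} h hu => by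
    rw [pow_succ, h, inv_mul_cancel₀ hu]
  have hrootInv : ∀ {u : K} {m : ℕ}, u ^ m = 1 → (X ^ m - 1 : K[X]).IsRoot u ∧ (X ^ m - 1 : K[X]).IsRoot u⁻¹ :=
    fun {u m} h => ⟨by simp [h], by simp [inv_pow, h]⟩
  obtain ⟨hd1, hd2, hd3, hd4⟩ := dd_dvd (F := F) p
  have hchar2 : p = 2 → (-1 : K) = 1 := fun e => by subst e; exact CharTwo.neg_eq 1
  -- the common sign case
  have hsame : ∀ m, (m = q + 1 ∨ m = q - 1) → x ^ m = 1 → y ^ m = 1 →
      ∃ N ∈ Spec p q, A.1 ^ N = 1 ∨ A.1 ^ N = -1 := by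
    intro m hm hxm hym
    obtain ⟨hx1, hx2⟩ := hrootInv hxm
    obtain ⟨hy1, hy2⟩ := hrootInv hym
    have hm0 : 0 < m := by omega
    have good : A.1.charpoly.map φ ∣ (X ^ m - 1) ^ p →
        ∃ N ∈ Spec p q, A.1 ^ N = 1 ∨ A.1 ^ N = -1 := fun h =>
      ⟨p * m, mem_spec₃ hm, pow_eq_of_dvd φ A.1 (Or.inl (by
        rw [sub_pow_char, one_pow, ← pow_mul, mul_comm])) h⟩
    by_cases hp4 : 4 ≤ p
    · refine good (dvd_trans ?_ (pow_dvd_pow _ hp4))
      rw [hQ, show (4 : ℕ) = 2 + 2 from rfl, pow_add]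
      exact mul_dvd_mul (pair_dvd_sq hx1 hx2) (pair_dvd_sq hy1 hy2)
    have hp2 : 2 ≤ p := hp.out.two_le
    by_cases hxy : x = y ∨ x = y⁻¹
    · have hQ' : A.1.charpoly.map φ = ((X - C x) * (X - C x⁻¹)) ^ 2 := by
        rw [hQ, pow_two]
        rcases hxy with rfl | rfl
        · rfl
        · rw [inv_inv]; ring
      by_cases hxx : x = x⁻¹
      · have hx1' : x = 1 ∨ x = -1 := mul_self_eq_one_iff.1 (by
          nth_rewrite 2 [hxx]; exact mul_inv_cancel₀ hx0)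
        have hQ4 : A.1.charpoly.map φ = (X - C x) ^ 4 := by
          rw [hQ', ← hxx, ← pow_two, ← pow_mul]
        have hp23 : p = 2 ∨ p = 3 := by omega
        rcases hp23 with rfl | rfl
        · have hx1'' : x = 1 := by rcases hx1' with h | h <;> simp [h, hchar2 rfl]
          refine ⟨4, mem_spec₄, pow_eq_of_dvd φ A.1 (Or.inl rfl) ?_⟩
          rw [hQ4, hx1'', C_1, show (4 : ℕ) = 2 ^ 2 from rfl, sub_pow_char_pow, one_pow]
        · refine ⟨9, mem_spec₉, ?_⟩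
          have h9 : A.1.charpoly.map φ ∣ (X - C x) ^ 9 := hQ4 ▸ pow_dvd_pow _ (by norm_num)
          rw [show (9 : ℕ) = 3 ^ 2 from rfl, sub_pow_char_pow] at h9
          refine pow_eq_of_dvd φ A.1 ?_ h9
          rcases hx1' with h | h <;> subst h
          · left; simp
          · right
            rw [C_neg, C_1, Odd.neg_one_pow (show Odd (3 ^ 2) by decide), sub_neg_eq_add, show (3 : ℕ) ^ 2 = 9 from rfl]
      · refine good (dvd_trans ?_ (pow_dvd_pow _ hp2))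
        rw [hQ']
        exact pow_dvd_pow_of_dvd (pair_dvd hxx hx1 hx2) 2
    · push Not at hxy
      refine good (dvd_trans ?_ (pow_dvd_pow _ hp2))
      rw [hQ]
      exact (pairs_coprime hxy.1 hxy.2).mul_dvd (pair_dvd_sq hx1 hx2) (pair_dvd_sq hy1 hy2)
  -- four distinct roots
  have hfour : ∀ {N : ℕ} {P : K[X]}, (P = X ^ N - 1 ∨ P = X ^ N + 1) → N ∈ Spec p q →
      x ≠ x⁻¹ → y ≠ y⁻¹ → x ≠ y → x ≠ y⁻¹ → P.IsRoot x → P.IsRoot x⁻¹ → P.IsRoot y → P.IsRoot y⁻¹ →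
      ∃ N ∈ Spec p q, A.1 ^ N = 1 ∨ A.1 ^ N = -1 := by
    intro N P hP hN h1 h2 h3 h4 e1 e2 e3 e4
    refine ⟨N, hN, pow_eq_of_dvd φ A.1 hP ?_⟩
    rw [hQ]
    exact (pairs_coprime h3 h4).mul_dvd (pair_dvd h1 e1 e2) (pair_dvd h2 e3 e4)
  rcases hsr with hss | hsr
  · -- both sums are fixed
    have hrr : Φ r = r := by rw [hr, map_sub, map_neg, hfix, hss]
    have hxc : x ^ (q - 1) = 1 ∨ x ^ (q + 1) = 1 := by
      have h : Φ x + (Φ x)⁻¹ = x + x⁻¹ := by rw [← map_inv₀, ← map_add, ← hsx, hss]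
      rcases hpair ((map_ne_zero Φ).2 hx0) hx0 h with h | h <;> rw [hΦ] at h
      exacts [Or.inl (hPx h hx0), Or.inr (hPx' h hx0)]
    have hyc : y ^ (q - 1) = 1 ∨ y ^ (q + 1) = 1 := by
      have h : Φ y + (Φ y)⁻¹ = y + y⁻¹ := by rw [← map_inv₀, ← map_add, ← hry, hrr]
      rcases hpair ((map_ne_zero Φ).2 hy0) hy0 h with h | h <;> rw [hΦ] at h
      exacts [Or.inl (hPx h hy0), Or.inr (hPx' h hy0)]
    -- an element of order at most two has both signs
    have hboth : ∀ {u : K}, u ≠ 0 → u = u⁻¹ → ∀ m, (m = q + 1 ∨ m = q - 1) → u ^ m = 1 := by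
      intro u hu hu' m hm
      rcases mul_self_eq_one_iff.1 (show u * u = 1 by nth_rewrite 2 [hu']; exact mul_inv_cancel₀ hu) with h | h
      · rw [h, one_pow]
      · rw [h]
        by_cases hp2 : p = 2
        · rw [hchar2 hp2, one_pow]
        · refine Even.neg_one_pow ?_
          have hdd : dd p = 2 := if_neg hp2
          rw [hdd] at hd1 hd2
          rcases hm with rfl | rfl <;> rwa [even_iff_two_dvd]
    by_cases hsamem : ∃ m, (m = q + 1 ∨ m = q - 1) ∧ x ^ m = 1 ∧ y ^ m = 1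
    · obtain ⟨m, h1, h2, h3⟩ := hsamem
      exact hsame m h1 h2 h3
    push Not at hsamem
    -- now the signs differ
    have hxne : x ≠ x⁻¹ := fun e => by
      rcases hyc with h | h
      · exact hsamem _ (Or.inr rfl) (hboth hx0 e _ (Or.inr rfl)) h
      · exact hsamem _ (Or.inl rfl) (hboth hx0 e _ (Or.inl rfl)) h
    have hyne : y ≠ y⁻¹ := fun e => by
      rcases hxc with h | h
      · exact hsamem _ (Or.inr rfl) h (hboth hy0 e _ (Or.inr rfl))
      · exact hsamem _ (Or.inl rfl) h (hboth hy0 e _ (Or.inl rfl))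
    have hxy1 : x ≠ y := fun e => by
      rcases hxc with h | h
      · exact hsamem _ (Or.inr rfl) h (e ▸ h)
      · exact hsamem _ (Or.inl rfl) h (e ▸ h)
    have hxy2 : x ≠ y⁻¹ := fun e => by
      have e' : y = x⁻¹ := by rw [e, inv_inv]
      rcases hxc with h | h
      · exact hsamem _ (Or.inr rfl) h (by rw [e', inv_pow, h, inv_one])
      · exact hsamem _ (Or.inl rfl) h (by rw [e', inv_pow, h, inv_one])
    have hm1 : q - 1 ∣ (q ^ 2 - 1) / dd p := by
      obtain ⟨k, hk⟩ := hd2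
      refine ⟨k, ?_⟩
      have e : q ^ 2 - 1 = dd p * (k * (q - 1)) := by
        rw [← mul_assoc, ← hk, ← Nat.sq_sub_sq, one_pow]
      rw [e, Nat.mul_div_cancel_left _ (Nat.pos_of_dvd_of_pos (Dvd.intro _ hk.symm) (by omega)), mul_comm]
    have hm2 : q + 1 ∣ (q ^ 2 - 1) / dd p := by
      obtain ⟨k, hk⟩ := hd1
      refine ⟨k, ?_⟩
      have e : q ^ 2 - 1 = dd p * ((q + 1) * k) := by
        rw [mul_left_comm, ← hk, ← Nat.sq_sub_sq, one_pow]
      rw [e, Nat.mul_div_cancel_left _ (Nat.pos_of_dvd_of_pos (Dvd.intro _ hk.symm) (by omega))]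
    have hN : ∀ {u : K}, (u ^ (q - 1) = 1 ∨ u ^ (q + 1) = 1) → u ^ ((q ^ 2 - 1) / dd p) = 1 := by
      rintro u (h | h)
      · obtain ⟨k, hk⟩ := hm1; rw [hk, pow_mul, h, one_pow]
      · obtain ⟨k, hk⟩ := hm2; rw [hk, pow_mul, h, one_pow]
    obtain ⟨hx1, hx2⟩ := hrootInv (hN hxc)
    obtain ⟨hy1, hy2⟩ := hrootInv (hN hyc)
    exact hfour (Or.inl rfl) mem_spec₂ hxne hyne hxy1 hxy2 hx1 hx2 hy1 hy2
  · by_cases hsr' : s = r
    · -- degenerate: then the sum is fixed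
      have hxy : x = y ∨ x = y⁻¹ := hpair hx0 hy0 (by rw [← hsx, ← hry, hsr'])
      have h : Φ x + (Φ x)⁻¹ = x + x⁻¹ := by rw [← map_inv₀, ← map_add, ← hsx, hsr, hsr']
      have hy : ∀ {m}, x ^ m = 1 → y ^ m = 1 := fun {m} hm => by
        rcases hxy with e | e
        · rw [← e, hm]
        · rw [show y = x⁻¹ by rw [e, inv_inv], inv_pow, hm, inv_one]
      rcases hpair ((map_ne_zero Φ).2 hx0) hx0 h with h | h <;> rw [hΦ] at h
      · exact hsame _ (Or.inr rfl) (hPx h hx0) (hy (hPx h hx0))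
      · exact hsame _ (Or.inl rfl) (hPx' h hx0) (hy (hPx' h hx0))
    have hΦr : Φ r = s := by rw [hr, map_sub, map_neg, hfix, hsr, hr]; ring
    have hxne : x ≠ x⁻¹ := fun e => hsr' (by
      have h1 : Φ x = x := by
        rcases mul_self_eq_one_iff.1 (show x * x = 1 by nth_rewrite 2 [e]; exact mul_inv_cancel₀ hx0)
          with h | h <;> rw [h]
        · exact map_one Φ
        · rw [map_neg, map_one]
      rw [← hsr, hsx, map_add, map_inv₀, h1])
    have hyne : y ≠ y⁻¹ := fun e => hsr' (by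
      have h1 : Φ y = y := by
        rcases mul_self_eq_one_iff.1 (show y * y = 1 by nth_rewrite 2 [e]; exact mul_inv_cancel₀ hy0)
          with h | h <;> rw [h]
        · exact map_one Φ
        · rw [map_neg, map_one]
      rw [← hΦr, hry, map_add, map_inv₀, h1])
    have hxy1 : x ≠ y := fun e => hsr' (by rw [hsx, hry, e])
    have hxy2 : x ≠ y⁻¹ := fun e => hsr' (by rw [hsx, hry, e, inv_inv, add_comm])
    have hxy : Φ x = y ∨ Φ x = y⁻¹ :=
      hpair ((map_ne_zero Φ).2 hx0) hy0 (by rw [← map_inv₀, ← map_add, ← hsx, hsr, hry])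
    have hyx : Φ y = x ∨ Φ y = x⁻¹ :=
      hpair ((map_ne_zero Φ).2 hy0) hx0 (by rw [← map_inv₀, ← map_add, ← hry, hΦr, hsx])
    have hx2 : x ^ q ^ 2 = x ∨ x ^ q ^ 2 = x⁻¹ := by
      rw [pow_two, pow_mul, ← hΦ x, ← hΦ]
      rcases hxy with h | h <;> rcases hyx with h' | h' <;> simp [h, h'] <;> exact Or.inl (inv_inv x)
    obtain ⟨N, hdvd, hmem, hxN⟩ : ∃ N, dd p ∣ N ∧ N / dd p ∈ Spec p q ∧ x ^ N = 1 := by
      rcases hx2 with h | h
      · refine ⟨q ^ 2 - 1, hd3, mem_spec₂, ?_⟩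
        apply mul_right_cancel₀ hx0
        rw [← pow_succ, Nat.sub_add_cancel (Nat.one_le_pow _ _ (by omega)), h, one_mul]
      · refine ⟨q ^ 2 + 1, hd4, mem_spec₁, ?_⟩
        rw [pow_succ, h, inv_mul_cancel₀ hx0]
    set M := N / dd p with hM
    have hxM : x ^ M = 1 ∨ x ^ M = -1 := by
      by_cases hp2 : p = 2
      · left; rw [hM, dd, if_pos hp2, Nat.div_one, hxN]
      · have hdd : dd p = 2 := if_neg hp2
        apply mul_self_eq_one_iff.1
        rw [← pow_add, ← two_mul, hM, hdd, Nat.mul_div_cancel' (hdd ▸ hdvd), hxN]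
    rcases hxM with h | h
    · have hy : y ^ M = 1 := by
        rcases hxy with e | e
        · rw [← e, hΦ, pow_right_comm, h, one_pow]
        · rw [show y = (Φ x)⁻¹ by rw [e, inv_inv], hΦ, inv_pow, pow_right_comm, h, one_pow, inv_one]
      obtain ⟨hx1, hx2⟩ := hrootInv h
      obtain ⟨hy1, hy2⟩ := hrootInv hy
      exact hfour (Or.inl rfl) hmem hxne hyne hxy1 hxy2 hx1 hx2 hy1 hy2
    · have hy : y ^ M = -1 := by
        have hneg : (Φ x) ^ M = -1 := by rw [← map_pow, h, map_neg, map_one]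
        rcases hxy with e | e
        · rw [← e, hneg]
        · rw [show y = (Φ x)⁻¹ by rw [e, inv_inv], inv_pow, hneg, inv_neg, inv_one]
      have hri : ∀ {u : K}, u ^ M = -1 → (X ^ M + 1 : K[X]).IsRoot u ∧ (X ^ M + 1 : K[X]).IsRoot u⁻¹ :=
        fun {u} hu => ⟨by simp [hu], by simp [inv_pow, hu, inv_neg]⟩
      obtain ⟨hx1, hx2⟩ := hri h
      obtain ⟨hy1, hy2⟩ := hri hy
      exact hfour (Or.inr rfl) hmem hxne hyne hxy1 hxy2 hx1 hx2 hy1 hy2

/-- The upper bound. -/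
theorem orderOf_mem_spec (x : Cfsg.PSp 2 F) : orderOf x ∈ Spec p (Fintype.card F) := by
  obtain ⟨A, rfl⟩ := QuotientGroup.mk_surjective x
  obtain ⟨N, hN, h⟩ := pow_eq_pm p A
  refine mem_spec_of_pow hN ?_
  rw [← QuotientGroup.mk_pow, QuotientGroup.eq_one_iff, GLOrder.center_Sp, SubmonoidClass.coe_pow]
  exact h

end Upper

end Cfsg.Agent.SpecPSpFour
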