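/-
Extensions of a matrix space by a group acting on it from both sides.

Main results (namespace `Cfsg.Agent.SpecPSpFour`):
* `Mod`, `matAct`, `Ext`
* `pow_left`, `pow_dvd_of_free`, `pow_dvd_mul`, `exists_orderOf_fixed`
* `exists_diag`, `exists_prod_eq_one` : fixed vectors of diagonalisable actions
* `tr_eq_of_twisted`, `pow_of_tr_pow`
-/
import Cfsg.Agent.Lib.SpecPSpFour.Upper
import Cfsg.Agent.Lib.PSL2.Torus
import Mathlib.GroupTheory.SemidirectProduct

set_option autoImplicit false
set_option linter.unusedSectionVars false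

namespace Cfsg.Agent.SpecPSpFour

open Matrix

section Ext

variable {ι : Type} [Fintype ι] [DecidableEq ι] {E : Type} [Field E] {G₀ : Type*} [Group G₀]

/-- The module. -/
abbrev Mod (ι : Type) (E : Type) : Type := Multiplicative (Matrix ι ι E)

/-- The action `X ↦ f g * X * (h g)ᵀ`. -/
def matAct (f h : G₀ →* Matrix ι ι E) : G₀ →* MulAut (Mod ι E) where
  toFun g :=
    { toFun := fun X => Multiplicative.ofAdd (f g * X.toAdd * (h g)ᵀ)
      invFun := fun X => Multiplicative.ofAdd (f g⁻¹ * X.toAdd * (h g⁻¹)ᵀ)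
      left_inv := fun X => by
        apply Multiplicative.toAdd.injective
        simp only [toAdd_ofAdd]
        rw [show f g⁻¹ * (f g * X.toAdd * (h g)ᵀ) * (h g⁻¹)ᵀ =
          (f g⁻¹ * f g) * X.toAdd * ((h g)ᵀ * (h g⁻¹)ᵀ) by simp only [mul_assoc],
          ← Matrix.transpose_mul, ← map_mul, ← map_mul, inv_mul_cancel, map_one, map_one,
          Matrix.transpose_one, one_mul, mul_one]
      right_inv := fun X => by
        apply Multiplicative.toAdd.injective
        simp only [toAdd_ofAdd]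
        rw [show f g * (f g⁻¹ * X.toAdd * (h g⁻¹)ᵀ) * (h g)ᵀ =
          (f g * f g⁻¹) * X.toAdd * ((h g⁻¹)ᵀ * (h g)ᵀ) by simp only [mul_assoc],
          ← Matrix.transpose_mul, ← map_mul, ← map_mul, mul_inv_cancel, map_one, map_one,
          Matrix.transpose_one, one_mul, mul_one]
      map_mul' := fun X Y => by
        apply Multiplicative.toAdd.injective
        simp only [toAdd_ofAdd, toAdd_mul, mul_add, add_mul] }
  map_one' := MulEquiv.ext fun X => by
    apply Multiplicative.toAdd.injective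
    show f 1 * X.toAdd * (h 1)ᵀ = X.toAdd
    rw [map_one, map_one, Matrix.transpose_one, one_mul, mul_one]
  map_mul' a b := MulEquiv.ext fun X => by
    apply Multiplicative.toAdd.injective
    show f (a * b) * X.toAdd * (h (a * b))ᵀ = f a * (f b * X.toAdd * (h b)ᵀ) * (h a)ᵀ
    rw [map_mul, map_mul, Matrix.transpose_mul]
    simp only [mul_assoc]

theorem matAct_apply (f h : G₀ →* Matrix ι ι E) (g : G₀) (X : Matrix ι ι E) :
    matAct f h g (Multiplicative.ofAdd X) = Multiplicative.ofAdd (f g * X * (h g)ᵀ) := rfl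

theorem matAct_toAdd (f h : G₀ →* Matrix ι ι E) (g : G₀) (X : Mod ι E) :
    (matAct f h g X).toAdd = f g * X.toAdd * (h g)ᵀ := rfl

/-- The split extension by a group of automorphisms. -/
abbrev Ext (G : Subgroup (MulAut (Mod ι E))) : Type := Mod ι E ⋊[G.subtype] G

variable {G : Subgroup (MulAut (Mod ι E))}

theorem pow_left (x : Ext G) (n : ℕ) :
    (x ^ n).left.toAdd = ∑ i ∈ Finset.range n,
      (((x.right ^ i : G) : MulAut (Mod ι E)) x.left).toAdd := by
  induction n with
  | zero => simp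
  | succ n ih =>
    rw [pow_succ, SemidirectProduct.mul_left, toAdd_mul, ih, Finset.sum_range_succ]
    have hr : (x ^ n).right = x.right ^ n := map_pow SemidirectProduct.rightHom x n
    rw [hr]
    rfl

variable (p : ℕ) [Fact p.Prime] [CharP E p]

theorem mod_pow_char (X : Mod ι E) : X ^ p = 1 := by
  apply Multiplicative.toAdd.injective
  rw [toAdd_pow, toAdd_one]
  ext i j
  simp [Matrix.smul_apply, CharP.cast_eq_zero E p]

/-- Powers killing the acting part land in the fixed points. -/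
theorem pow_eq_inl {x : Ext G} {n : ℕ} (hn : x.right ^ n = 1) :
    ∃ w : Mod ι E, x ^ n = SemidirectProduct.inl w ∧ (x.right : MulAut (Mod ι E)) w = w := by
  have hr : (x ^ n).right = 1 := by
    show SemidirectProduct.rightHom (x ^ n) = 1
    rw [map_pow]
    exact hn
  have hinl : x ^ n = SemidirectProduct.inl (x ^ n).left := SemidirectProduct.ext rfl hr
  refine ⟨(x ^ n).left, hinl, ?_⟩
  have hc : x * SemidirectProduct.inl (x ^ n).left = SemidirectProduct.inl (x ^ n).left * x := by
    rw [← hinl]; exact (Commute.self_pow x n).eq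
  have := congrArg SemidirectProduct.left hc
  simp only [SemidirectProduct.mul_left, SemidirectProduct.left_inl, SemidirectProduct.right_inl,
    map_one, MulAut.one_apply] at this
  rw [mul_comm (x ^ n).left x.left] at this
  exact mul_left_cancel this

theorem pow_eq_one_of_free {x : Ext G} {n : ℕ} (hn : x.right ^ n = 1)
    (hfree : ∀ w : Mod ι E, (x.right : MulAut (Mod ι E)) w = w → w = 1) : x ^ n = 1 := by
  obtain ⟨w, hw, hw'⟩ := pow_eq_inl hn
  rw [hw, hfree w hw', map_one]

theorem pow_mul_char {x : Ext G} {n : ℕ} (hn : x.right ^ n = 1) : x ^ (p * n) = 1 := by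
  obtain ⟨w, hw, -⟩ := pow_eq_inl hn
  rw [mul_comm, pow_mul, hw, ← map_pow, mod_pow_char p, map_one]

theorem orderOf_inr (g : G) : orderOf (SemidirectProduct.inr g : Ext G) = orderOf g :=
  orderOf_injective _ SemidirectProduct.inr_injective g

/-- A fixed vector multiplies the order by the characteristic. -/
theorem exists_orderOf_fixed {g : G} {w : Mod ι E} (hw : w ≠ 1) (hg : (g : MulAut (Mod ι E)) w = w)
    (hcop : Nat.Coprime p (orderOf g)) : ∃ x : Ext G, orderOf x = p * orderOf g := by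
  refine ⟨SemidirectProduct.inl w * SemidirectProduct.inr g, ?_⟩
  have hc : Commute (SemidirectProduct.inl w : Ext G) (SemidirectProduct.inr g) := by
    refine SemidirectProduct.ext ?_ ?_
    · simp [SemidirectProduct.mul_left, hg]
    · simp
  have hp : orderOf w = p := orderOf_eq_prime (mod_pow_char p w) hw
  have h1 : orderOf (SemidirectProduct.inl w : Ext G) = p := by
    rw [orderOf_injective _ SemidirectProduct.inl_injective, hp]
  rw [hc.orderOf_mul_eq_mul_orderOf_of_coprime (by rwa [h1, orderOf_inr]), h1, orderOf_inr]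

instance finite_ext [Finite E] : Finite (Ext G) := by
  haveI : Finite (MulAut (Mod ι E)) := Finite.of_injective _ DFunLike.coe_injective
  exact Finite.of_injective (fun x => (x.left, x.right))
    (fun a b h => SemidirectProduct.ext (congrArg Prod.fst h) (congrArg Prod.snd h))

end Ext

section Fixed

variable {ι : Type} [Fintype ι] [DecidableEq ι] {K : Type*} [Field K]

/-- A fixed vector of a diagonalisable two sided action. -/
theorem exists_prod_eq_one {M N P R : Matrix ι ι K} {d e : ι → K} (hP : IsUnit P) (hR : IsUnit R)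
    (hM : M * P = P * Matrix.diagonal d) (hN : N * R = R * Matrix.diagonal e) {X : Matrix ι ι K}
    (hX : X ≠ 0) (h : M * X * Nᵀ = X) : ∃ i j, d i * e j = 1 := by
  by_contra hne
  push Not at hne
  obtain ⟨P, rfl⟩ := hP
  obtain ⟨R, rfl⟩ := hR
  have hMP : M = (P : Matrix ι ι K) * Matrix.diagonal d * (P⁻¹ : (Matrix ι ι K)ˣ) := by
    rw [← hM, Units.mul_inv_cancel_right]
  have hNR : N = (R : Matrix ι ι K) * Matrix.diagonal e * (R⁻¹ : (Matrix ι ι K)ˣ) := by
    rw [← hN, Units.mul_inv_cancel_right]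
  set Y := ((P⁻¹ : (Matrix ι ι K)ˣ) : Matrix ι ι K) * X * ((R⁻¹ : (Matrix ι ι K)ˣ) : Matrix ι ι K)ᵀ with hY
  have hY' : Matrix.diagonal d * Y * Matrix.diagonal e = Y := by
    have h1 := congrArg (fun Z => ((P⁻¹ : (Matrix ι ι K)ˣ) : Matrix ι ι K) * Z *
      ((R⁻¹ : (Matrix ι ι K)ˣ) : Matrix ι ι K)ᵀ) h
    beta_reduce at h1
    rw [← hY, hMP, hNR, Matrix.transpose_mul, Matrix.transpose_mul, Matrix.diagonal_transpose] at h1
    rw [hY]
    calc Matrix.diagonal d * (((P⁻¹ : (Matrix ι ι K)ˣ) : Matrix ι ι K) * X *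
          ((R⁻¹ : (Matrix ι ι K)ˣ) : Matrix ι ι K)ᵀ) * Matrix.diagonal e
        = (((P⁻¹ : (Matrix ι ι K)ˣ) : Matrix ι ι K) * (P : Matrix ι ι K)) * Matrix.diagonal d *
          (((P⁻¹ : (Matrix ι ι K)ˣ) : Matrix ι ι K) * X * ((R⁻¹ : (Matrix ι ι K)ˣ) : Matrix ι ι K)ᵀ) *
          Matrix.diagonal e * ((R : Matrix ι ι K)ᵀ * ((R⁻¹ : (Matrix ι ι K)ˣ) : Matrix ι ι K)ᵀ) := by
          rw [Units.inv_mul, ← Matrix.transpose_mul, Units.inv_mul, Matrix.transpose_one, one_mul, mul_one]
      _ = _ := by rw [← hY]; refine Eq.trans ?_ h1; rw [hY]; simp only [mul_assoc]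
  have hY0 : Y = 0 := by
    ext i j
    have := congrFun (congrFun hY' i) j
    rw [Matrix.mul_diagonal, Matrix.diagonal_mul] at this
    have h0 : (d i * e j - 1) * Y i j = 0 := by linear_combination this
    exact (mul_eq_zero.1 h0).resolve_left (sub_ne_zero.2 (hne i j))
  apply hX
  have : (P : Matrix ι ι K) * Y * (R : Matrix ι ι K)ᵀ = X := by
    rw [hY]
    simp only [← mul_assoc]
    rw [Units.mul_inv, one_mul, mul_assoc, ← Matrix.transpose_mul, Units.mul_inv, Matrix.transpose_one, mul_one]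
  rw [← this, hY0, mul_zero, zero_mul]

/-- Diagonalisation of a two by two matrix with two distinct eigenvalues. -/
theorem exists_diag (A : Matrix (Fin 2) (Fin 2) K) {a b : K} (hab : a ≠ b)
    (htr : A 0 0 + A 1 1 = a + b) (hdet : A.det = a * b) :
    ∃ P : Matrix (Fin 2) (Fin 2) K, IsUnit P ∧ A * P = P * Matrix.diagonal ![a, b] := by
  rw [Matrix.det_fin_two] at hdet
  have hz : ∀ c, c = a ∨ c = b → (A - c • 1).det = 0 := by
    intro c hc
    rw [Matrix.det_fin_two]
    simp
    rcases hc with rfl | rfl <;> linear_combination hdet - c * htr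
  obtain ⟨u, hu0, hu⟩ := Matrix.exists_mulVec_eq_zero_iff.2 (hz a (Or.inl rfl))
  obtain ⟨v, hv0, hv⟩ := Matrix.exists_mulVec_eq_zero_iff.2 (hz b (Or.inr rfl))
  rw [Matrix.sub_mulVec, Matrix.smul_mulVec, Matrix.one_mulVec, sub_eq_zero] at hu hv
  let P : Matrix (Fin 2) (Fin 2) K := (Matrix.of ![u, v])ᵀ
  have hPx : ∀ x : Fin 2 → K, P *ᵥ x = x 0 • u + x 1 • v := fun x => by
    ext i
    simp [P, Matrix.mulVec, dotProduct, Fin.sum_univ_two, mul_comm]
  refine ⟨P, (Matrix.isUnit_iff_isUnit_det P).2 (isUnit_iff_ne_zero.2 ?_), ?_⟩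
  · intro h0
    obtain ⟨x, hx0, hx⟩ := Matrix.exists_mulVec_eq_zero_iff.2 h0
    rw [hPx] at hx
    have hAx : x 0 • (a • u) + x 1 • (b • v) = 0 := by
      rw [← hu, ← hv, ← Matrix.mulVec_smul, ← Matrix.mulVec_smul, ← Matrix.mulVec_add, hx, Matrix.mulVec_zero]
    have h1 : ((a - b) * x 0) • u = 0 := by
      linear_combination (norm := module) hAx - b • hx
    have hx00 : x 0 = 0 := by
      rcases smul_eq_zero.1 h1 with h | h
      · exact (mul_eq_zero.1 h).resolve_left (sub_ne_zero.2 hab)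
      · exact absurd h hu0
    rw [hx00, zero_smul, zero_add] at hx
    have hx10 : x 1 = 0 := (smul_eq_zero.1 hx).resolve_right hv0
    exact hx0 (funext fun i => by fin_cases i <;> simp [hx00, hx10])
  · ext i j
    rw [Matrix.mul_diagonal]
    have hu' := congrFun hu i
    have hv' := congrFun hv i
    simp [Matrix.mulVec, dotProduct, Fin.sum_univ_two] at hu' hv'
    fin_cases j
    · simp [P, Matrix.mul_apply, Fin.sum_univ_two]; linear_combination hu'
    · simp [P, Matrix.mul_apply, Fin.sum_univ_two]; linear_combination hv'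

end Fixed

section SL2

open Cfsg.Agent.PSL2

variable {E : Type} [Field E]

/-- Twisted intertwining forces equal traces. -/
theorem tr_eq_of_twisted (A B : SL2 E) {X : Matrix (Fin 2) (Fin 2) E} (hX : X ≠ 0)
    (h : A.1 * X * B.1ᵀ = X) : tr A = tr B := by
  set C := SpecialLinearGroup.transpose B⁻¹ with hC
  have hBC : B.1ᵀ * C.1 = 1 := by
    rw [hC]
    show B.1ᵀ * (B⁻¹).1ᵀ = 1
    rw [← Matrix.transpose_mul, ← Matrix.SpecialLinearGroup.coe_mul, inv_mul_cancel,
      Matrix.SpecialLinearGroup.coe_one, Matrix.transpose_one]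
  have hY : A.1 * X = X * C.1 := by
    conv_rhs => rw [← h]
    rw [mul_assoc, hBC, mul_one]
  have htC : tr C = tr B := by
    rw [hC, tr_eq_trace, show (SpecialLinearGroup.transpose B⁻¹).1 = (B⁻¹).1ᵀ from rfl,
      Matrix.trace_transpose, ← tr_eq_trace, tr_inv]
  have h2 : A.1 * A.1 * X = X * C.1 * C.1 := by
    rw [mul_assoc, hY, ← mul_assoc, hY]
  rw [mul_assoc X, coe_sq A, coe_sq C, htC, sub_mul, one_mul, smul_mul_assoc, mul_sub, mul_one,
    Matrix.mul_smul, ← hY, sub_left_inj] at h2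
  have h3 : (tr A - tr B) • (A.1 * X) = 0 := by rw [sub_smul, h2, sub_self]
  rcases smul_eq_zero.1 h3 with h4 | h4
  · exact sub_eq_zero.1 h4
  · exfalso; apply hX
    have : (A⁻¹).1 * (A.1 * X) = X := by
      rw [← mul_assoc, ← Matrix.SpecialLinearGroup.coe_mul, inv_mul_cancel,
        Matrix.SpecialLinearGroup.coe_one, one_mul]
    rw [← this, h4, mul_zero]

/-- Trace in the subfield of order `q`: order dividing `q ± 1`. -/
theorem pow_of_tr_pow (p f : ℕ) [Fact p.Prime] [CharP E p] {A : SL2 E}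
    (ht : tr A ^ p ^ f = tr A) (h4 : tr A ^ 2 ≠ 4) :
    A ^ (p ^ f - 1) = 1 ∨ A ^ (p ^ f + 1) = 1 := by
  let K := AlgebraicClosure E
  let φ : E →+* K := algebraMap E K
  haveI : CharP K p := charP_of_injective_ringHom φ.injective p
  obtain ⟨c, hc⟩ := exists_root φ A
  let Φ : K →+* K := iterateFrobenius K p f
  have hΦ : ∀ x : K, Φ x = x ^ p ^ f := fun x => iterateFrobenius_def p f x
  have hc' : Φ c ^ 2 - φ (tr A) * Φ c + 1 = 0 := by
    have := congrArg Φ hc
    rwa [map_zero, map_add, map_sub, map_pow, map_mul, map_one, hΦ (φ (tr A)), ← map_pow φ, ht] at this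
  have hc0 : c ≠ 0 := root_ne_zero φ hc
  have h : (Φ c - c) * (Φ c - c⁻¹) = 0 := by
    linear_combination hc' + Φ c * add_inv_root φ hc + (mul_inv_cancel₀ hc0)
  rcases mul_eq_zero.1 h with h | h <;> rw [sub_eq_zero, hΦ] at h
  · left
    rw [pow_eq_one_iff_root φ hc h4]
    apply mul_right_cancel₀ hc0
    rw [← pow_succ, Nat.sub_add_cancel (Nat.one_le_pow _ _ (Fact.out : p.Prime).pos), h, one_mul]
  · right
    rw [pow_eq_one_iff_root φ hc h4, pow_succ, h, inv_mul_cancel₀ hc0]

/-- A square root of one in `SL₂` outside characteristic two. -/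
theorem eq_pm_of_sq {A : SL2 E} (h2 : (2 : E) ≠ 0) {n : ℕ} (hn : 2 ∣ n) (h : A ^ n = 1) :
    A ^ (n / 2) = 1 ∨ A ^ (n / 2) = -1 :=
  mem_center_iff'.1 (mem_center_of_mul_self h2 (by
    rw [← pow_add, ← two_mul, Nat.mul_div_cancel' hn, h]))

end SL2

end Cfsg.Agent.SpecPSpFour
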