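/-
The element orders of `PSp₄(q)`: all the listed orders occur.

Main results (namespace `Cfsg.Agent.SpecPSpFour`):
* `eq_spec`          : a set of element orders with the bound and the maximal values is `Spec`
* `range_orderOf_psp` : the element orders of `PSp₄(q)`
-/
import Cfsg.Agent.Lib.SpecPSpFour.Upper
import Cfsg.Agent.Lib.GLOrder.SympAlg
import Cfsg.Agent.Lib.GLOrder.SympOrders

set_option autoImplicit false
set_option linter.unusedSectionVars false

namespace Cfsg.Agent.SpecPSpFour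

open Matrix

/-- The element orders are determined by the bound and the maximal orders. -/
theorem eq_spec {G : Type*} [Group G] [Finite G] (p q : ℕ)
    (hup : ∀ x : G, orderOf x ∈ Spec p q)
    (h1 : ∃ x : G, (q ^ 2 + 1) / dd p ∣ orderOf x) (h2 : ∃ x : G, (q ^ 2 - 1) / dd p ∣ orderOf x)
    (h3 : ∃ x : G, p * (q + 1) ∣ orderOf x) (h4 : ∃ x : G, p * (q - 1) ∣ orderOf x)
    (h5 : p = 2 → ∃ x : G, 4 ∣ orderOf x) (h6 : p = 3 → ∃ x : G, 9 ∣ orderOf x) :
    Set.range (orderOf : G → ℕ) = Spec p q := by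
  ext n
  constructor
  · rintro ⟨x, rfl⟩; exact hup x
  · intro hn
    obtain ⟨x, hx⟩ : ∃ x : G, n ∣ orderOf x := by
      rcases hn with h | h | h | h | ⟨e, h⟩ | ⟨e, h⟩
      · exact h1.imp fun _ hx => h.trans hx
      · exact h2.imp fun _ hx => h.trans hx
      · exact h3.imp fun _ hx => h.trans hx
      · exact h4.imp fun _ hx => h.trans hx
      · exact (h5 e).imp fun _ hx => h.trans hx
      · exact (h6 e).imp fun _ hx => h.trans hx
    exact ⟨x ^ (orderOf x / n), orderOf_pow_orderOf_div (orderOf_pos x).ne' hx⟩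

section Lower

variable {F : Type*} [Field F] [Fintype F] (p : ℕ) [hp : Fact p.Prime] [CharP F p]

open GLOrder in
/-- Powers equal to `±1` of an element of the ring of a `GLOrder.Elem`. -/
theorem neg_eq_one_of_two {m : ℕ} (E : Elem F m) (e : p = 2) : (-1 : E.R) = 1 := by
  subst e
  have h2 : (2 : F) = 0 := by exact_mod_cast CharP.cast_eq_zero F 2
  have h2' : (2 : E.R) = 0 := by rw [← map_ofNat (algebraMap F E.R) 2, h2, map_zero]
  linear_combination -h2'

theorem exists_half {N : ℕ} (hd : dd p ∣ N) (h : GLOrder.HasOrd F 2 N) :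
    ∃ g : Cfsg.PSp 2 F, orderOf g = N / dd p := by
  obtain ⟨E, hE⟩ := h
  refine E.exists_psp fun k hk => ?_
  have hdvd : N ∣ dd p * k := hE.trans (orderOf_dvd_of_pow_eq_one (by
    unfold dd
    split_ifs with hp2
    · rw [one_mul]
      rcases hk with h | h
      · exact h
      · rw [h, neg_eq_one_of_two p E hp2]
    · rw [mul_comm, pow_mul]
      rcases hk with h | h <;> rw [h] <;> simp))
  obtain ⟨c, hc⟩ := hd
  have hd0 : 0 < dd p := by unfold dd; split_ifs <;> norm_num
  rw [hc, Nat.mul_div_cancel_left _ hd0]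
  rw [hc] at hdvd
  exact Nat.dvd_of_mul_dvd_mul_left hd0 hdvd

theorem exists_char_mul {m : ℕ} (hm : m = Fintype.card F + 1 ∨ m = Fintype.card F - 1) :
    ∃ g : Cfsg.PSp 2 F, orderOf g = p * m := by
  obtain ⟨E, hE⟩ := (GLOrder.hasOrd_char F p).exact
  have h1 : GLOrder.HasOrd F 1 m := by
    rcases hm with rfl | rfl
    · simpa [Nat.card_eq_fintype_card] using GLOrder.hasOrd_add_one (F := F) (d := 1) le_rfl
    · simpa [Nat.card_eq_fintype_card] using GLOrder.hasOrd_sub_one (F := F) (d := 1) le_rfl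
  obtain ⟨E', hE'⟩ := h1.exact
  obtain ⟨f, hf1, hf⟩ := card_eq_pow (F := F) p
  have hcop : Nat.Coprime p m := by
    rw [Nat.Prime.coprime_iff_not_dvd hp.out]
    intro hdvd
    have hq : p ∣ Fintype.card F := hf ▸ dvd_pow_self p (by omega)
    have hq1 : 1 < Fintype.card F := Fintype.one_lt_card
    have : p ∣ 1 := by
      rcases hm with rfl | rfl
      · exact (Nat.dvd_add_right hq).1 hdvd
      · rw [Nat.dvd_sub_iff_right hq1.le hq] at hdvd
        exact hdvd
    exact hp.out.not_dvd_one this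
  refine (E.prod E').exists_psp fun k hk => ?_
  have hk' : ((E.val, E'.val) : E.R × E'.R) ^ k = 1 := by
    rcases hk with h | h
    · exact h
    · have h1 : E.val ^ k = -1 := congrArg Prod.fst h
      have h2 : (-1 : E.R) = 1 := by
        by_cases hp2 : p = 2
        · exact neg_eq_one_of_two p E hp2
        · have h3 := congrArg (· ^ p) h1
          rw [← pow_mul, mul_comm, pow_mul, (hE ▸ pow_orderOf_eq_one E.val : E.val ^ p = 1), one_pow,
            (hp.out.odd_of_ne_two hp2).neg_one_pow] at h3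
          exact h3.symm
      have hneg : ((-1 : E.R × E'.R)) = 1 := by
        refine Prod.ext h2 ?_
        have hF : (-1 : F) = 1 := by
          haveI := E.nontrivial (le_refl 1)
          apply (algebraMap F E.R).injective
          rw [map_neg, map_one, h2]
        show (-1 : E'.R) = 1
        rw [← map_one (algebraMap F E'.R), ← map_neg, hF]
      exact h.trans hneg
  rw [Prod.pow_mk, Prod.mk_eq_one] at hk'
  exact hcop.mul_dvd_of_dvd_of_dvd (hE ▸ orderOf_dvd_of_pow_eq_one hk'.1)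
    (hE' ▸ orderOf_dvd_of_pow_eq_one hk'.2)

/-- The unipotent matrix of order four over the prime field. -/
def mFour : Matrix (Fin 2 ⊕ Fin 2) (Fin 2 ⊕ Fin 2) (ZMod 2) :=
  fromBlocks !![1, 1; 0, 1] !![0, 1; 0, 1] !![0, 0; 0, 0] !![1, 0; 1, 1]

theorem mFour_facts :
    mFour * Matrix.J (Fin 2) (ZMod 2) * mFourᵀ = Matrix.J (Fin 2) (ZMod 2) ∧
      ¬ (mFour ^ (2 ^ 1) = 1 ∨ mFour ^ (2 ^ 1) = -1) ∧ mFour ^ (2 ^ (1 + 1)) = 1 := by
  decide +kernel

/-- An element of order four in characteristic two. -/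
theorem exists_four [CharP F 2] : ∃ g : Cfsg.PSp 2 F, orderOf g = 4 := by
  let φ : ZMod 2 →+* F := ZMod.castHom dvd_rfl F
  have hmem : mFour ∈ Matrix.symplecticGroup (Fin 2) (ZMod 2) := by
    rw [SymplecticGroup.mem_iff]; exact mFour_facts.1
  have hinj : Function.Injective (φ.mapMatrix (m := Fin 2 ⊕ Fin 2)) := fun X Y e =>
    Matrix.map_injective φ.injective e
  let M : Matrix.symplecticGroup (Fin 2) F := ⟨φ.mapMatrix mFour, SymplecticGroup.map_mem hmem φ⟩
  haveI : Fact (Nat.Prime 2) := ⟨Nat.prime_two⟩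
  refine ⟨QuotientGroup.mk M, (orderOf_eq_prime_pow (p := 2) (n := 1) ?_ ?_).trans rfl⟩
  · rw [← QuotientGroup.mk_pow, QuotientGroup.eq_one_iff, GLOrder.center_Sp, SubmonoidClass.coe_pow,
      show M.1 = φ.mapMatrix mFour from rfl, ← map_pow, ← map_one (φ.mapMatrix (m := Fin 2 ⊕ Fin 2)),
      ← map_neg, hinj.eq_iff, hinj.eq_iff]
    exact mFour_facts.2.1
  · rw [← QuotientGroup.mk_pow, QuotientGroup.eq_one_iff, GLOrder.center_Sp, SubmonoidClass.coe_pow,
      show M.1 = φ.mapMatrix mFour from rfl, ← map_pow, ← map_one (φ.mapMatrix (m := Fin 2 ⊕ Fin 2)),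
      hinj.eq_iff]
    left
    exact mFour_facts.2.2

/-- The element orders of `PSp₄(q)`. -/
theorem range_orderOf_psp :
    Set.range (orderOf : Cfsg.PSp 2 F → ℕ) = Spec p (Fintype.card F) := by
  obtain ⟨hd1, hd2, hd3, hd4⟩ := dd_dvd (F := F) p
  refine eq_spec p (Fintype.card F) (orderOf_mem_spec p) ?_ ?_ ?_ ?_ ?_ ?_
  · obtain ⟨g, hg⟩ := exists_half p hd4 (by
      simpa [Nat.card_eq_fintype_card] using GLOrder.hasOrd_add_one (F := F) (d := 2) (by norm_num))
    exact ⟨g, hg ▸ dvd_rfl⟩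
  · obtain ⟨g, hg⟩ := exists_half p hd3 (by
      simpa [Nat.card_eq_fintype_card] using GLOrder.hasOrd_sub_one (F := F) (d := 2) (by norm_num))
    exact ⟨g, hg ▸ dvd_rfl⟩
  · obtain ⟨g, hg⟩ := exists_char_mul p (Or.inl rfl : Fintype.card F + 1 = _ ∨ _)
    exact ⟨g, hg ▸ dvd_rfl⟩
  · obtain ⟨g, hg⟩ := exists_char_mul p (Or.inr rfl : Fintype.card F - 1 = _ ∨ _)
    exact ⟨g, hg ▸ dvd_rfl⟩
  · intro e; subst e
    obtain ⟨g, hg⟩ := exists_four (F := F)
    exact ⟨g, hg ▸ dvd_rfl⟩
  · intro e; subst e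
    have h2 : (2 : F) ≠ 0 := fun h => by
      have := (CharP.cast_eq_zero_iff F 3 2).1 (by exact_mod_cast h)
      omega
    obtain ⟨g, hg⟩ := (GLOrder.hasOrd_unipotent F 3 h2 (k := 2) (j := 1) (by norm_num)).exists_psp_orderOf
      (Or.inl (by decide))
    exact ⟨g, by rw [hg]; norm_num⟩

end Lower

end Cfsg.Agent.SpecPSpFour
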