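/-
`SL₂(q²)` on the twisted tensor square of its natural module.

Main results (namespace `Cfsg.Agent.SpecPSpFour`):
* `conj`, `act`, `swap`, `twistGroup`
* `exists_twist_even` : characteristic two, the spectrum of `PSp₄(q)`
* `exists_twist_odd`  : characteristic at least five, the spectrum of `PSp₄(q)`
-/
import Cfsg.Agent.Lib.SpecPSpFour.Lower
import Cfsg.Agent.Lib.SpecPSpFour.Common
import Cfsg.Agent.Lib.PSL2.Elements

set_option autoImplicit false
set_option linter.unusedSectionVars false

namespace Cfsg.Agent.SpecPSpFour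

open Matrix Cfsg.Agent.PSL2

section Setup

variable (E : Type) [Field E] (p : ℕ) [Fact p.Prime] [CharP E p] (f : ℕ)

/-- The field automorphism of order two applied to `SL₂`. -/
noncomputable def conj : SL2 E →* SL2 E := SpecialLinearGroup.map (iterateFrobenius E p f)

/-- The matrix of an element. -/
def valHom : SL2 E →* Matrix (Fin 2) (Fin 2) E where
  toFun A := A.1
  map_one' := rfl
  map_mul' _ _ := rfl

/-- The action on the twisted tensor square. -/
noncomputable def act : SL2 E →* MulAut (Mod (Fin 2) E) := matAct (valHom E) ((valHom E).comp (conj E p f))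

/-- The transposition of the two factors. -/
def swap : MulAut (Mod (Fin 2) E) where
  toFun X := Multiplicative.ofAdd (X.toAdd)ᵀ
  invFun X := Multiplicative.ofAdd (X.toAdd)ᵀ
  left_inv X := by simp
  right_inv X := by simp
  map_mul' X Y := by simp

variable {E}

theorem conj_apply (A : SL2 E) (i j : Fin 2) : (conj E p f A).1 i j = A.1 i j ^ p ^ f :=
  iterateFrobenius_def p f _

theorem act_apply (A : SL2 E) (X : Matrix (Fin 2) (Fin 2) E) :
    act E p f A (Multiplicative.ofAdd X) = Multiplicative.ofAdd (A.1 * X * (conj E p f A).1ᵀ) := rfl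

theorem act_toAdd (A : SL2 E) (X : Mod (Fin 2) E) :
    (act E p f A X).toAdd = A.1 * X.toAdd * (conj E p f A).1ᵀ := rfl

theorem tr_conj' (A : SL2 E) : tr (conj E p f A) = tr A ^ p ^ f := by
  simp only [tr, conj_apply]
  exact ((iterateFrobenius E p f).map_add _ _).symm.trans (iterateFrobenius_def p f _)

theorem conj_neg_one : conj E p f (-1) = -1 := by
  apply Subtype.ext
  ext i j
  rw [conj_apply]
  fin_cases i <;> fin_cases j <;> simp [← iterateFrobenius_def]

theorem act_neg_one : act E p f (-1) = 1 := by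
  refine MulEquiv.ext fun X => ?_
  apply Multiplicative.toAdd.injective
  rw [act_toAdd, conj_neg_one]
  simp

theorem act_eq_one_of_pm {A : SL2 E} (h : A = 1 ∨ A = -1) : act E p f A = 1 := by
  rcases h with rfl | rfl
  · exact map_one _
  · exact act_neg_one p f

theorem pm_of_act_eq_one {A : SL2 E} (h : act E p f A = 1) : A = 1 ∨ A = -1 := by
  have hX : ∀ X : Matrix (Fin 2) (Fin 2) E, A.1 * X * (conj E p f A).1ᵀ = X := fun X =>
    congrArg Multiplicative.toAdd (DFunLike.congr_fun h (Multiplicative.ofAdd X))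
  have h1 : A.1 * (conj E p f A).1ᵀ = 1 := by simpa using hX 1
  have h2 : (conj E p f A).1ᵀ * A.1 = 1 := mul_eq_one_comm.1 h1
  rw [← mem_center_iff', Subgroup.mem_center_iff]
  intro C
  apply Subtype.ext
  show C.1 * A.1 = A.1 * C.1
  conv_lhs => rw [← hX C.1]
  rw [mul_assoc, h2, mul_one]

theorem swap_mul_swap : swap E * swap E = 1 := MulEquiv.ext fun X => by simp [swap]

theorem mem_twist_aux (hE : ∀ x : E, (x ^ p ^ f) ^ p ^ f = x) (A : SL2 E) :
    swap E * act E p f A = act E p f (conj E p f A) * swap E := by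
  refine MulEquiv.ext fun X => ?_
  apply Multiplicative.toAdd.injective
  show (A.1 * X.toAdd * (conj E p f A).1ᵀ)ᵀ =
    (conj E p f A).1 * (X.toAdd)ᵀ * (conj E p f (conj E p f A)).1ᵀ
  have hcc : (conj E p f (conj E p f A)).1 = A.1 := by
    ext i j; rw [conj_apply, conj_apply, hE]
  rw [hcc, Matrix.transpose_mul, Matrix.transpose_mul, Matrix.transpose_transpose, mul_assoc]

variable [Finite E]

/-- The group generated by the action and the swap. -/
noncomputable def twistGroup (hE : ∀ x : E, (x ^ p ^ f) ^ p ^ f = x) : Subgroup (MulAut (Mod (Fin 2) E)) :=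
  { carrier := {φ | ∃ A, φ = act E p f A ∨ φ = act E p f A * swap E}
    one_mem' := ⟨1, Or.inl (map_one _).symm⟩
    mul_mem' := by
      rintro a b ⟨A, rfl | rfl⟩ ⟨B, rfl | rfl⟩
      · exact ⟨A * B, Or.inl (map_mul _ _ _).symm⟩
      · exact ⟨A * B, Or.inr (by rw [map_mul, mul_assoc])⟩
      · refine ⟨A * conj E p f B, Or.inr ?_⟩
        rw [mul_assoc, mem_twist_aux p f hE, map_mul, mul_assoc]
      · refine ⟨A * conj E p f B, Or.inl ?_⟩
        rw [mul_assoc, ← mul_assoc (swap E), mem_twist_aux p f hE, mul_assoc (act E p f (conj E p f B)),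
          swap_mul_swap, mul_one, map_mul]
    inv_mem' := by
      rintro a ⟨A, rfl | rfl⟩
      · exact ⟨A⁻¹, Or.inl (map_inv _ _).symm⟩
      · refine ⟨conj E p f A⁻¹, Or.inr ?_⟩
        rw [_root_.mul_inv_rev, ← map_inv, inv_eq_of_mul_eq_one_right (swap_mul_swap (E := E)),
          mem_twist_aux p f hE] }

variable {G : Subgroup (MulAut (Mod (Fin 2) E))}

theorem right_pow_eq_one {x : Ext G} {A : SL2 E} (hA : (x.right : MulAut _) = act E p f A) {n : ℕ}
    (h : A ^ n = 1 ∨ A ^ n = -1) : x.right ^ n = 1 := by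
  apply Subtype.ext
  rw [SubmonoidClass.coe_pow, hA, ← map_pow, act_eq_one_of_pm p f h]
  rfl

/-- Unipotent elements, in characteristic at least five. -/
theorem pow_char_eq_one (hp : 5 ≤ p) {x : Ext G} {A : SL2 E}
    (hA : (x.right : MulAut _) = act E p f A) (h4 : tr A ^ 2 = 4) : x ^ p = 1 := by
  obtain ⟨B, hB, hB2⟩ : ∃ B : SL2 E, (x.right : MulAut _) = act E p f B ∧ tr B = 2 := by
    have h : (tr A - 2) * (tr A + 2) = 0 := by linear_combination h4
    rcases mul_eq_zero.1 h with h | h
    · exact ⟨A, hA, sub_eq_zero.1 h⟩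
    · refine ⟨-1 * A, by rw [map_mul, act_neg_one, one_mul, hA], ?_⟩
      rw [neg_one_mul, tr_neg]; linear_combination -h
  set N := B.1 - 1 with hN
  set M := (conj E p f B).1 - 1 with hM
  have htwo : ∀ C : SL2 E, tr C = 2 → (C.1 - 1) * (C.1 - 1) = 0 := fun C hC => by
    rw [sub_mul, mul_sub, mul_one, one_mul, coe_sq, hC]; module
  have hpow : ∀ C : SL2 E, tr C = 2 → ∀ i : ℕ, (C ^ i).1 = 1 + (i : E) • (C.1 - 1) := fun C hC i => by
    induction i with
    | zero => simp
    | succ i ih =>
      rw [pow_succ, Matrix.SpecialLinearGroup.coe_mul, ih]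
      nth_rewrite 2 [show C.1 = 1 + (C.1 - 1) from (add_sub_cancel 1 C.1).symm]
      rw [add_mul, one_mul, smul_mul_assoc, mul_add, mul_one, htwo C hC, add_zero, Nat.cast_succ, add_smul,
        one_smul]
      abel
  have hB2' : tr (conj E p f B) = 2 := by
    rw [tr_conj', hB2, ← iterateFrobenius_def, map_ofNat]
  have hright : x.right ^ p = 1 := by
    apply right_pow_eq_one p f hB
    left
    apply Subtype.ext
    rw [hpow B hB2, CharP.cast_eq_zero, zero_smul, add_zero]
    rfl
  refine SemidirectProduct.ext ?_ ((map_pow SemidirectProduct.rightHom x p).trans hright)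
  apply Multiplicative.toAdd.injective
  rw [pow_left, SemidirectProduct.one_left, toAdd_one]
  have hterm : ∀ i : ℕ, ((((x.right ^ i : G) : MulAut _)) x.left).toAdd =
      x.left.toAdd + (i : E) • (N * x.left.toAdd + x.left.toAdd * Mᵀ) +
        (i : E) ^ 2 • (N * x.left.toAdd * Mᵀ) := fun i => by
    rw [SubmonoidClass.coe_pow, hB, ← map_pow, act_toAdd, map_pow, hpow B hB2, hpow _ hB2', ← hN, ← hM,
      Matrix.transpose_add, Matrix.transpose_one, Matrix.transpose_smul]
    simp only [add_mul, mul_add, one_mul, mul_one, smul_mul_assoc, Matrix.mul_smul, smul_smul, pow_two,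
      smul_add]
    abel
  rw [Finset.sum_congr rfl fun i _ => hterm i, Finset.sum_add_distrib, Finset.sum_add_distrib,
    ← Finset.sum_smul, ← Finset.sum_smul]
  have hne : ∀ k : ℕ, 0 < k → k < 5 → (k : E) ≠ 0 := fun k hk hk5 h => by
    have := Nat.le_of_dvd hk ((CharP.cast_eq_zero_iff E p k).1 h)
    omega
  have hsum1 : ∀ n : ℕ, (2 : E) * ∑ i ∈ Finset.range n, (i : E) = n * (n - 1) := fun n => by
    induction n with
    | zero => simp
    | succ n ih => rw [Finset.sum_range_succ, mul_add, ih]; push_cast; ring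
  have hsum2 : ∀ n : ℕ, (6 : E) * ∑ i ∈ Finset.range n, (i : E) ^ 2 = n * (n - 1) * (2 * n - 1) := fun n => by
    induction n with
    | zero => simp
    | succ n ih => rw [Finset.sum_range_succ, mul_add, ih]; push_cast; ring
  have h1 : ∑ i ∈ Finset.range p, (i : E) = 0 := by
    have := hsum1 p
    rw [CharP.cast_eq_zero, zero_mul] at this
    exact (mul_eq_zero.1 this).resolve_left (by exact_mod_cast hne 2 (by norm_num) (by norm_num))
  have h2 : ∑ i ∈ Finset.range p, (i : E) ^ 2 = 0 := by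
    have := hsum2 p
    rw [CharP.cast_eq_zero, zero_mul, zero_mul] at this
    refine (mul_eq_zero.1 this).resolve_left ?_
    rw [show (6 : E) = (2 : ℕ) * (3 : ℕ) by norm_num]
    exact mul_ne_zero (hne 2 (by norm_num) (by norm_num)) (hne 3 (by norm_num) (by norm_num))
  rw [h1, h2, zero_smul, zero_smul, add_zero, add_zero, Finset.sum_const, Finset.card_range,
    ← Nat.cast_smul_eq_nsmul E, CharP.cast_eq_zero, zero_smul]

/-- Elements acting without the swap, in characteristic other than three. -/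
theorem orderOf_inner (hp : p = 2 ∨ 5 ≤ p) (hE : Nat.card E = (p ^ f) ^ 2) {x : Ext G} {A : SL2 E}
    (hA : (x.right : MulAut _) = act E p f A) : orderOf x ∈ Spec p (p ^ f) := by
  by_cases h4 : tr A ^ 2 = 4
  · rcases hp with rfl | hp
    · exact mem_spec_of_pow mem_spec₄
        ((pow_mul_char 2 (right_pow_eq_one 2 f hA (pow_char_of_tr_sq 2 h4)) : x ^ (2 * 2) = 1))
    · exact mem_spec_of_pow (dvd_mem_spec (mem_spec₃ (Or.inl rfl)) (Dvd.intro _ rfl))
        (pow_char_eq_one p f hp hA h4)
  by_cases ht : tr A ^ p ^ f = tr A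
  · obtain ⟨m, hm, hAm⟩ : ∃ m, (m = p ^ f + 1 ∨ m = p ^ f - 1) ∧ A ^ m = 1 :=
      (pow_of_tr_pow p f ht h4).elim (fun h => ⟨_, Or.inr rfl, h⟩) (fun h => ⟨_, Or.inl rfl, h⟩)
    exact mem_spec_of_pow (mem_spec₃ hm) (pow_mul_char p (right_pow_eq_one p f hA (Or.inl hAm)))
  have hfree : ∀ w : Mod (Fin 2) E, (x.right : MulAut _) w = w → w = 1 := by
    intro w hw
    by_contra hw1
    refine ht ?_
    rw [← tr_conj']
    refine (tr_eq_of_twisted A (conj E p f A) (X := w.toAdd) (fun e => hw1 ?_) ?_).symm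
    · exact Multiplicative.toAdd.injective e
    · rw [hA] at hw
      exact congrArg Multiplicative.toAdd hw
  have hN : ∀ N, N / dd p ∈ Spec p (p ^ f) → A ^ N = 1 → (p ≠ 2 → 2 ∣ N) →
      orderOf x ∈ Spec p (p ^ f) := by
    intro N hmem hAN heven
    refine mem_spec_of_pow hmem (pow_eq_one_of_free (right_pow_eq_one p f hA ?_) hfree)
    unfold dd
    split_ifs with hp2
    · left; rwa [Nat.div_one]
    · refine eq_pm_of_sq ?_ (heven hp2) hAN
      intro h
      have := (CharP.cast_eq_zero_iff E p 2).1 (by exact_mod_cast h)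
      exact hp2 ((Nat.prime_dvd_prime_iff_eq Fact.out Nat.prime_two).1 this)
  have hodd : p ≠ 2 → (p ^ f) ^ 2 % 2 = 1 := fun hp2 =>
    Nat.odd_iff.1 (((Fact.out : p.Prime).odd_of_ne_two hp2).pow.pow)
  rcases pow_card_cases p A with h | h | h
  · rw [hE] at h
    exact hN _ mem_spec₂ h fun hp2 => by have := hodd hp2; omega
  · rw [hE] at h
    exact hN _ mem_spec₁ h fun hp2 => by have := hodd hp2; omega
  · exact mem_spec_of_pow (dvd_mem_spec (mem_spec₃ (Or.inl rfl)) (Dvd.intro _ rfl))
      (pow_eq_one_of_free (right_pow_eq_one p f hA h) hfree)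

/-- Elements acting without the swap: the two large tori. -/
theorem exists_torus_orders (hE : Nat.card E = (p ^ f) ^ 2) (hG : ∀ A, act E p f A ∈ G) (N : ℕ)
    (hN : N = (p ^ f) ^ 2 - 1 ∨ N = (p ^ f) ^ 2 + 1) (hd : dd p ∣ N) :
    ∃ x : Ext G, N / dd p ∣ orderOf x := by
  obtain ⟨A, hA⟩ := GLOrder.exists_orderOf_SL_two (F := E) (d := N) (by
    rw [hE]; rcases hN with rfl | rfl <;> simp)
  refine ⟨SemidirectProduct.inr ⟨act E p f A, hG A⟩, ?_⟩
  rw [orderOf_inr]
  set k := orderOf (⟨act E p f A, hG A⟩ : G) with hk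
  have h : act E p f (A ^ k) = 1 := by
    rw [map_pow]
    exact congrArg Subtype.val (pow_orderOf_eq_one (⟨act E p f A, hG A⟩ : G))
  have hdvd : N ∣ dd p * k := by
    rw [← hA]
    refine orderOf_dvd_of_pow_eq_one ?_
    unfold dd
    split_ifs with hp2
    · rw [one_mul]
      subst hp2
      rcases pm_of_act_eq_one 2 f h with h | h
      · exact h
      · rw [h]; apply Subtype.ext; ext i j; fin_cases i <;> fin_cases j <;> simp [CharTwo.neg_eq]
    · rw [mul_comm, pow_mul]
      rcases pm_of_act_eq_one p f h with h | h <;> rw [h] <;> simp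
  obtain ⟨c, hc⟩ := hd
  have hd0 : 0 < dd p := by unfold dd; split_ifs <;> norm_num
  rw [hc, Nat.mul_div_cancel_left _ hd0]
  rw [hc] at hdvd
  exact Nat.dvd_of_mul_dvd_mul_left hd0 hdvd

end Setup

section Diag

variable {E : Type} [Field E]

/-- An element of `SL₂` from its entries. -/
def mkSL (a b c d : E) (h : a * d - b * c = 1) : SL2 E :=
  ⟨!![a, b; c, d], by rwa [Matrix.det_fin_two_of]⟩

theorem mkSL_val (a b c d : E) (h : a * d - b * c = 1) : (mkSL a b c d h).1 = !![a, b; c, d] := rfl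

theorem neg_cancel_aux (x y : E) (hx : x ≠ 0) (hy : y ≠ 0) : -x⁻¹ * (x * y) * -y⁻¹ = 1 := by
  field_simp

theorem diagS_val (u : Eˣ) :
    (GLOrder.diagS E u).1 = !![(u : E), 0; 0, ((u⁻¹ : Eˣ) : E)] := rfl

end Diag

section Field

variable (p : ℕ) [Fact p.Prime] (f : ℕ)

theorem card_galois (hf : 1 ≤ f) : Nat.card (GaloisField p (2 * f)) = (p ^ f) ^ 2 := by
  rw [GaloisField.card p (2 * f) (by omega), ← pow_mul, mul_comm]

theorem galois_pow_pow (hf : 1 ≤ f) (x : GaloisField p (2 * f)) : (x ^ p ^ f) ^ p ^ f = x := by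
  haveI := Fintype.ofFinite (GaloisField p (2 * f))
  rw [← pow_mul, ← pow_two, ← card_galois p f hf, Nat.card_eq_fintype_card, FiniteField.pow_card]

theorem galois_gen (hf : 1 ≤ f) : ∃ a : (GaloisField p (2 * f))ˣ, orderOf a = (p ^ f) ^ 2 - 1 := by
  obtain ⟨a, ha⟩ := IsCyclic.exists_ofOrder_eq_natCard (α := (GaloisField p (2 * f))ˣ)
  exact ⟨a, by rw [ha, Nat.card_units, card_galois p f hf]⟩

end Field

theorem sq_sub_one_eq (q : ℕ) : q ^ 2 - 1 = (q + 1) * (q - 1) := GLOrder.sq_sub_one q

/-- Characteristic two. -/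
theorem exists_twist_even (f : ℕ) (hf : 1 ≤ f) :
    ∃ (G : Subgroup (MulAut (Mod (Fin 2) (GaloisField 2 (2 * f))))),
      Set.range (orderOf : Ext G → ℕ) = Spec 2 (2 ^ f) := by
  classical
  set E := GaloisField 2 (2 * f)
  have hE := card_galois 2 f hf
  let G := (act E 2 f).range
  have hG : ∀ A, act E 2 f A ∈ G := fun A => ⟨A, rfl⟩
  obtain ⟨a, ha⟩ := galois_gen 2 f hf
  have hq : 2 ≤ 2 ^ f := Nat.le_self_pow (by omega) 2
  have key : ∀ (u : Eˣ) (m : ℕ), orderOf u = m → (m = 2 ^ f + 1 ∨ m = 2 ^ f - 1) →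
      ∃ x : Ext G, 2 * m ∣ orderOf x := by
    intro u m hu hm
    have hord : orderOf (⟨act E 2 f (GLOrder.diagS E u), hG _⟩ : G) = m := by
      refine Nat.dvd_antisymm (orderOf_dvd_of_pow_eq_one (Subtype.ext ?_)) ?_
      · rw [SubmonoidClass.coe_pow, ← map_pow, ← map_pow, ← hu, pow_orderOf_eq_one, map_one, map_one]
        rfl
      · rw [← hu]
        refine orderOf_dvd_of_pow_eq_one (GLOrder.diagS_injective ?_)
        have h := congrArg Subtype.val (pow_orderOf_eq_one (⟨act E 2 f (GLOrder.diagS E u), hG _⟩ : G))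
        rw [SubmonoidClass.coe_pow] at h
        rw [map_pow, map_one]
        rw [← map_pow] at h
        rcases pm_of_act_eq_one 2 f h with h | h
        · rw [← hu] at *
          exact h
        · rw [h]; apply Subtype.ext; ext i j; fin_cases i <;> fin_cases j <;> simp [CharTwo.neg_eq]
    have hcop : Nat.Coprime 2 m := by
      have := Nat.even_pow.2 ⟨even_two, (show f ≠ 0 by omega)⟩
      rw [Nat.even_iff] at this
      rw [Nat.coprime_two_left, Nat.odd_iff]
      omega
    have hum : u ^ m = 1 := hu ▸ pow_orderOf_eq_one u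
    obtain ⟨w, hw1, hw⟩ : ∃ w : Mod (Fin 2) E, w ≠ 1 ∧ act E 2 f (GLOrder.diagS E u) w = w := by
      rcases hm with rfl | rfl
      · refine ⟨Multiplicative.ofAdd !![1, 0; 0, 0], fun e => ?_, ?_⟩
        · simpa using congrArg (fun z : Mod (Fin 2) E => z.toAdd 0 0) e
        · rw [act_apply]
          congr 1
          have h1 : (u : E) * (u : E) ^ 2 ^ f = 1 := by
            rw [← pow_succ', ← Units.val_pow_eq_pow_val, hum, Units.val_one]
          ext i j
          fin_cases i <;> fin_cases j <;>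
            simp [Matrix.mul_apply, Fin.sum_univ_two, conj_apply, diagS_val, h1]
      · refine ⟨Multiplicative.ofAdd !![0, 1; 0, 0], fun e => ?_, ?_⟩
        · simpa using congrArg (fun z : Mod (Fin 2) E => z.toAdd 0 1) e
        · rw [act_apply]
          congr 1
          have h1 : (u : E) * ((u : E) ^ 2 ^ f)⁻¹ = 1 := by
            have : (u : E) ^ 2 ^ f = u := by
              rw [show 2 ^ f = (2 ^ f - 1) + 1 by omega, pow_succ, ← Units.val_pow_eq_pow_val, hum,
                Units.val_one, one_mul]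
            rw [this]; exact mul_inv_cancel₀ u.ne_zero
          ext i j
          fin_cases i <;> fin_cases j <;>
            simp [Matrix.mul_apply, Fin.sum_univ_two, conj_apply, diagS_val, h1]
    obtain ⟨x, hx⟩ := exists_orderOf_fixed 2 (g := (⟨_, hG (GLOrder.diagS E u)⟩ : G)) hw1 hw (by rwa [hord])
    exact ⟨x, by rw [hx, hord]⟩
  refine ⟨G, eq_spec 2 (2 ^ f) ?_ ?_ ?_ ?_ ?_ ?_ (fun e => absurd e (by norm_num))⟩
  · intro x
    obtain ⟨A, hA⟩ := x.right.2
    exact orderOf_inner 2 f (Or.inl rfl) hE hA.symm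
  · exact exists_torus_orders 2 f hE hG _ (Or.inr rfl) (by simp [dd])
  · exact exists_torus_orders 2 f hE hG _ (Or.inl rfl) (by simp [dd])
  · refine key (a ^ (2 ^ f - 1)) (2 ^ f + 1) ?_ (Or.inl rfl)
    rw [orderOf_pow_of_dvd (by omega) (by rw [ha, sq_sub_one_eq]; exact Dvd.intro_left _ rfl), ha,
      sq_sub_one_eq, Nat.mul_div_cancel _ (by omega)]
  · refine key (a ^ (2 ^ f + 1)) (2 ^ f - 1) ?_ (Or.inr rfl)
    rw [orderOf_pow_of_dvd (by omega) (by rw [ha, sq_sub_one_eq]; exact Dvd.intro _ rfl), ha,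
      sq_sub_one_eq, Nat.mul_div_cancel_left _ (by omega)]
  · intro _
    let U : SL2 E := mkSL 1 1 0 1 (by ring)
    have hU : U ^ 2 = 1 := by
      apply Subtype.ext
      rw [pow_two, Matrix.SpecialLinearGroup.coe_mul]
      ext i j
      fin_cases i <;> fin_cases j <;> simp [U, mkSL_val, Matrix.mul_apply, Fin.sum_univ_two, CharTwo.add_self_eq_zero]
    let v : Mod (Fin 2) E := Multiplicative.ofAdd !![0, 0; 0, 1]
    let x : Ext G := SemidirectProduct.inl v * SemidirectProduct.inr ⟨act E 2 f U, hG U⟩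
    refine ⟨x, dvd_of_eq (orderOf_eq_prime_pow (p := 2) (n := 1) ?_ ?_).symm⟩
    · intro h1
      have hl := congrArg (fun z : Ext G => z.left.toAdd 0 0) h1
      simp [x, v, U, mkSL_val, pow_two, act_apply, conj_apply, Matrix.vecMul, dotProduct, Fin.sum_univ_two] at hl
    · exact pow_mul_char 2 (right_pow_eq_one 2 f (A := U) (by simp [x]) (Or.inl hU))

/-- Characteristic at least five. -/
theorem exists_twist_odd (p : ℕ) [Fact p.Prime] (hp : 5 ≤ p) (f : ℕ) (hf : 1 ≤ f) :
    ∃ (G : Subgroup (MulAut (Mod (Fin 2) (GaloisField p (2 * f))))),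
      Set.range (orderOf : Ext G → ℕ) = Spec p (p ^ f) := by
  classical
  set E := GaloisField p (2 * f)
  have hE := card_galois p f hf
  have hEE := galois_pow_pow p f hf
  let G := twistGroup (E := E) p f hEE
  have hG : ∀ A, act E p f A ∈ G := fun A => ⟨A, Or.inl rfl⟩
  have hG' : ∀ A, act E p f A * swap E ∈ G := fun A => ⟨A, Or.inr rfl⟩
  have hp2 : p ≠ 2 := by omega
  have hdd : dd p = 2 := if_neg hp2
  have h2 : (2 : E) ≠ 0 := fun h => by
    have := Nat.le_of_dvd two_pos ((CharP.cast_eq_zero_iff E p 2).1 (by exact_mod_cast h))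
    omega
  have hodd : p ^ f % 2 = 1 := Nat.odd_iff.1 ((Fact.out : p.Prime).odd_of_ne_two hp2).pow
  have hodd2 : (p ^ f) ^ 2 % 2 = 1 := by rw [Nat.pow_mod, hodd]
  have hq : 5 ≤ p ^ f := hp.trans (Nat.le_self_pow (by omega) p)
  have hsq : ∀ A, (act E p f A * swap E) * (act E p f A * swap E) = act E p f (A * conj E p f A) := fun A => by
    rw [mul_assoc, ← mul_assoc (swap E), mem_twist_aux p f hEE, mul_assoc (act E p f (conj E p f A)),
      swap_mul_swap, mul_one, map_mul]
  obtain ⟨a, ha⟩ := galois_gen p f hf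
  have key : ∀ (A : SL2 E) (c : Eˣ) (m : ℕ) (w : Mod (Fin 2) E),
      (m = p ^ f + 1 ∨ m = p ^ f - 1) → A * conj E p f A = GLOrder.diagS E c → c ^ m = 1 →
      (∀ j, c ^ (2 * j) = 1 → m ∣ 2 * j) → (∀ B : SL2 E, act E p f B ≠ swap E) →
      w ≠ 1 → (act E p f A * swap E) w = w → ∃ x : Ext G, p * m ∣ orderOf x := by
    intro A c m w hm hAc hcm hcj hswap hw1 hw
    have hm2 : 2 ∣ m := by rcases hm with rfl | rfl <;> omega
    set g : G := ⟨act E p f A * swap E, hG' A⟩ with hg
    have hg2 : ((g ^ 2 : G) : MulAut _) = act E p f (GLOrder.diagS E c) := by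
      rw [SubmonoidClass.coe_pow, pow_two, ← hAc]; exact hsq A
    have hord : orderOf g = m := by
      refine Nat.dvd_antisymm (orderOf_dvd_of_pow_eq_one ?_) ?_
      · rw [← Nat.mul_div_cancel' hm2, pow_mul]
        apply Subtype.ext
        rw [SubmonoidClass.coe_pow, hg2, ← map_pow]
        exact act_eq_one_of_pm p f (eq_pm_of_sq h2 hm2 (by rw [← map_pow, hcm, map_one]))
      · obtain ⟨j, hj | hj⟩ := Nat.even_or_odd' (orderOf g)
        · rw [hj]
          apply hcj
          have h := congrArg Subtype.val (pow_orderOf_eq_one g)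
          rw [hj, pow_mul, SubmonoidClass.coe_pow, hg2, ← map_pow] at h
          apply GLOrder.diagS_injective
          rw [map_one, map_pow, mul_comm 2 j, pow_mul]
          rcases pm_of_act_eq_one p f h with h | h <;> rw [h] <;> simp
        · exfalso
          have h := congrArg Subtype.val (pow_orderOf_eq_one g)
          rw [hj, pow_succ, pow_mul, Subgroup.coe_mul, SubmonoidClass.coe_pow, hg2, ← map_pow] at h
          have h' : swap E = (act E p f ((GLOrder.diagS E c) ^ j * A))⁻¹ := by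
            rw [eq_inv_iff_mul_eq_one, mul_eq_one_comm, map_mul, mul_assoc]
            exact h
          rw [← map_inv] at h'
          exact hswap _ h'.symm
    have hcop : Nat.Coprime p m := by
      rw [Nat.Prime.coprime_iff_not_dvd Fact.out]
      intro hdvd
      have hpq : p ∣ p ^ f := dvd_pow_self p (by omega)
      have h1 : p ∣ 1 := by
        rcases hm with rfl | rfl
        · exact (Nat.dvd_add_right hpq).1 hdvd
        · rwa [Nat.dvd_sub_iff_right (by omega) hpq] at hdvd
      exact (Fact.out : p.Prime).not_dvd_one h1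
    obtain ⟨x, hx⟩ := exists_orderOf_fixed p (g := g) hw1 hw (by rwa [hord])
    exact ⟨x, by rw [hx, hord]⟩
  have hswap : ∀ B : SL2 E, act E p f B ≠ swap E := by
    intro B h
    have hX : ∀ X : Matrix (Fin 2) (Fin 2) E, B.1 * X * (conj E p f B).1ᵀ = Xᵀ := fun X =>
      congrArg Multiplicative.toAdd (DFunLike.congr_fun h (Multiplicative.ofAdd X))
    have h00 := congrFun (congrFun (hX !![1, 0; 0, 0]) 1) 1
    have h11 := congrFun (congrFun (hX !![0, 0; 0, 1]) 0) 0
    have h01 := congrFun (congrFun (hX !![0, 1; 0, 0]) 1) 0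
    simp [Matrix.mul_apply, Fin.sum_univ_two, conj_apply] at h00 h11 h01
    simp [h00.elim id And.left, h11.elim id And.left] at h01
  refine ⟨G, eq_spec p (p ^ f) ?_ ?_ ?_ ?_ ?_ (fun e => absurd e (by omega)) (fun e => absurd e (by omega))⟩
  · intro x
    obtain ⟨A, hA | hA⟩ := x.right.2
    · exact orderOf_inner p f (Or.inr hp) hE hA
    · set y := A * conj E p f A with hy
      have hx2 : ((x ^ 2).right : MulAut _) = act E p f y := by
        rw [show (x ^ 2).right = x.right ^ 2 from map_pow SemidirectProduct.rightHom x 2,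
          SubmonoidClass.coe_pow, hA, pow_two, hsq]
      by_cases h4 : tr y ^ 2 = 4
      · have h : x ^ (2 * p) = 1 := by rw [pow_mul]; exact pow_char_eq_one p f hp hx2 h4
        refine mem_spec_of_pow (dvd_mem_spec (mem_spec₃ (Or.inl rfl)) ?_) h
        rw [mul_comm]
        exact mul_dvd_mul_left p (by omega)
      have ht : tr y ^ p ^ f = tr y := by
        rw [← tr_conj', hy, map_mul, show conj E p f (conj E p f A) = A from Subtype.ext (by
          ext i j; rw [conj_apply, conj_apply, hEE]), tr_mul_comm]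
      obtain ⟨m, hm, hym⟩ : ∃ m, (m = p ^ f + 1 ∨ m = p ^ f - 1) ∧ y ^ m = 1 :=
        (pow_of_tr_pow p f ht h4).elim (fun h => ⟨_, Or.inr rfl, h⟩) (fun h => ⟨_, Or.inl rfl, h⟩)
      have hm2 : 2 ∣ m := by rcases hm with rfl | rfl <;> omega
      refine mem_spec_of_pow (mem_spec₃ hm) (pow_mul_char p ?_)
      rw [← Nat.mul_div_cancel' hm2, pow_mul]
      rw [← show (x ^ 2).right = x.right ^ 2 from map_pow SemidirectProduct.rightHom x 2]
      exact right_pow_eq_one p f hx2 (eq_pm_of_sq h2 hm2 hym)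
  · exact exists_torus_orders p f hE hG _ (Or.inr rfl) (by rw [hdd]; omega)
  · exact exists_torus_orders p f hE hG _ (Or.inl rfl) (by rw [hdd]; omega)
  · refine key (mkSL 0 (a : E) (-((a⁻¹ : Eˣ) : E)) 0 (by rw [zero_mul, zero_sub, mul_neg, neg_neg, Units.mul_inv]))
       (-(a * (a ^ p ^ f)⁻¹)) (p ^ f + 1) (Multiplicative.ofAdd !![(a : E) ^ (p ^ f + 1), 0; 0, 1])
       (Or.inl rfl) ?_ ?_ ?_ hswap ?_ ?_
    · apply Subtype.ext
      rw [Matrix.SpecialLinearGroup.coe_mul, diagS_val]
      ext i j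
      fin_cases i <;> fin_cases j <;>
        simp [mkSL_val, Matrix.mul_apply, Fin.sum_univ_two, Matrix.vecMul, dotProduct, conj_apply, ← iterateFrobenius_def, mul_comm, map_inv₀]
      all_goals ring
    · rw [Even.neg_pow (by rw [Nat.even_iff]; omega), mul_pow, inv_pow, ← pow_mul, mul_inv_eq_one]
      rw [pow_eq_pow_iff_modEq, ha]
      refine (Nat.modEq_iff_dvd' (Nat.le_mul_of_pos_left _ (by omega))).2 ?_
      rw [sq_sub_one_eq, ← Nat.sub_one_mul, mul_comm]
    · intro j hj
      rw [Even.neg_pow (even_two_mul j), mul_pow, inv_pow, mul_inv_eq_one, ← pow_mul, pow_eq_pow_iff_modEq, ha,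
        Nat.modEq_iff_dvd' (Nat.le_mul_of_pos_left _ (by omega)), sq_sub_one_eq, ← Nat.sub_one_mul,
        mul_comm (p ^ f - 1) (2 * j)] at hj
      exact Nat.dvd_of_mul_dvd_mul_right (by omega) hj
    · intro e; simpa using congrArg (fun z : Mod (Fin 2) E => z.toAdd 1 1) e
    · rw [MulAut.mul_apply]
      apply Multiplicative.toAdd.injective
      rw [act_toAdd, toAdd_ofAdd]
      simp only [swap, MulEquiv.coe_mk, Equiv.coe_fn_mk, toAdd_ofAdd]
      ext i j
      fin_cases i <;> fin_cases j <;>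
        simp [mkSL_val, Matrix.mul_apply, Fin.sum_univ_two, Matrix.vecMul, dotProduct, conj_apply, ← iterateFrobenius_def, pow_succ, mul_comm]
      all_goals try exact rfl
      all_goals exact neg_cancel_aux _ _ a.ne_zero ((map_ne_zero _).2 a.ne_zero)
  · refine key (GLOrder.diagS E a) (a * a ^ p ^ f) (p ^ f - 1)
       (Multiplicative.ofAdd !![0, (a : E) * ((a : E) ^ p ^ f)⁻¹; 1, 0])
       (Or.inr rfl) ?_ ?_ ?_ hswap ?_ ?_
    · apply Subtype.ext
      rw [Matrix.SpecialLinearGroup.coe_mul, diagS_val, diagS_val]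
      ext i j
      fin_cases i <;> fin_cases j <;>
        simp [mkSL_val, Matrix.mul_apply, Fin.sum_univ_two, Matrix.vecMul, dotProduct, conj_apply, ← iterateFrobenius_def, mul_comm, diagS_val, map_inv₀]
    · rw [← pow_succ', ← pow_mul, ← sq_sub_one_eq, ← ha, pow_orderOf_eq_one]
    · intro j hj
      rw [← pow_succ', ← pow_mul] at hj
      have h := orderOf_dvd_of_pow_eq_one hj
      rw [ha, sq_sub_one_eq] at h
      exact Nat.dvd_of_mul_dvd_mul_left (by omega) h
    · intro e; simpa using congrArg (fun z : Mod (Fin 2) E => z.toAdd 1 0) e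
    · rw [MulAut.mul_apply]
      apply Multiplicative.toAdd.injective
      rw [act_toAdd, toAdd_ofAdd]
      simp only [swap, MulEquiv.coe_mk, Equiv.coe_fn_mk, toAdd_ofAdd]
      ext i j
      fin_cases i <;> fin_cases j <;>
        simp [Matrix.mul_apply, Fin.sum_univ_two, Matrix.vecMul, dotProduct, conj_apply, diagS_val]
      all_goals first
        | (intro h; omega)
        | exact inv_mul_cancel₀ (pow_ne_zero _ a.ne_zero)
        | (right; intro h; omega)

end Cfsg.Agent.SpecPSpFour
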