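/-
`PSL₂(q²)` on a sixteen dimensional module in characteristic three, `q` a square.

Main results (namespace `Cfsg.Agent.SpecPSpFour`):
* `actThree`          : the action on `W ⊗ W ⊗ W^(q) ⊗ W^(3q)`
* `exists_twist_three` : the spectrum of `PSp₄(q)` for `q = 3^f`, `f` even
-/
import Cfsg.Agent.Lib.SpecPSpFour.Twist

set_option autoImplicit false
set_option linter.unusedSectionVars false

namespace Cfsg.Agent.SpecPSpFour

open Matrix Cfsg.Agent.PSL2
open scoped Kronecker

section Setup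

variable (E : Type) [Field E] [CharP E 3] [Fact (Nat.Prime 3)] (f : ℕ)

/-- The tensor square. -/
noncomputable def sqHom (σ τ : SL2 E →* SL2 E) :
    SL2 E →* Matrix (Fin 2 × Fin 2) (Fin 2 × Fin 2) E where
  toFun A := (σ A).1 ⊗ₖ (τ A).1
  map_one' := by rw [map_one, map_one, Matrix.SpecialLinearGroup.coe_one, Matrix.one_kronecker_one]
  map_mul' A B := by
    rw [map_mul, map_mul, Matrix.SpecialLinearGroup.coe_mul, Matrix.SpecialLinearGroup.coe_mul,
      Matrix.mul_kronecker_mul]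

/-- The action. -/
noncomputable def actThree : SL2 E →* MulAut (Mod (Fin 2 × Fin 2) E) :=
  matAct (sqHom E (MonoidHom.id _) (MonoidHom.id _)) (sqHom E (conj E 3 f) (conj E 3 (f + 1)))

variable {E}

theorem actThree_apply (A : SL2 E) (X : Matrix (Fin 2 × Fin 2) (Fin 2 × Fin 2) E) :
    actThree E f A (Multiplicative.ofAdd X) = Multiplicative.ofAdd
      ((A.1 ⊗ₖ A.1) * X * ((conj E 3 f A).1 ⊗ₖ (conj E 3 (f + 1) A).1)ᵀ) := rfl

theorem actThree_eq_one_of_pm {A : SL2 E} (h : A = 1 ∨ A = -1) : actThree E f A = 1 := by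
  rcases h with rfl | rfl
  · exact map_one _
  · refine MulEquiv.ext fun X => ?_
    rw [show X = Multiplicative.ofAdd X.toAdd from rfl, actThree_apply, conj_neg_one, conj_neg_one]
    have h : ((-1 : SL2 E).1 ⊗ₖ (-1 : SL2 E).1) = 1 := by
      rw [Matrix.SpecialLinearGroup.coe_neg, Matrix.SpecialLinearGroup.coe_one]
      ext ⟨i, j⟩ ⟨k, l⟩
      fin_cases i <;> fin_cases j <;> fin_cases k <;> fin_cases l <;> simp
    rw [h, Matrix.transpose_one, one_mul, mul_one]
    rfl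

theorem pm_of_actThree_eq_one {A : SL2 E} (h : actThree E f A = 1) : A = 1 ∨ A = -1 := by
  have hX : ∀ X, (A.1 ⊗ₖ A.1) * X * ((conj E 3 f A).1 ⊗ₖ (conj E 3 (f + 1) A).1)ᵀ = X := fun X =>
    congrArg Multiplicative.toAdd (DFunLike.congr_fun h (Multiplicative.ofAdd X))
  have h1 := hX 1
  rw [mul_one] at h1
  have h2 := mul_eq_one_comm.1 h1
  have hc : ∀ X, X * (A.1 ⊗ₖ A.1) = (A.1 ⊗ₖ A.1) * X := fun X => by
    conv_lhs => rw [← hX X]
    rw [mul_assoc, h2, mul_one]
  have hoff : ∀ a b : Fin 2 × Fin 2, a ≠ b → (A.1 ⊗ₖ A.1) a b = 0 := fun a b hab => by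
    have := congrFun (congrFun (hc (Matrix.single b b 1)) a) b
    simp [hab, hab.symm] at this
    rw [Matrix.kroneckerMap_apply]
    exact mul_eq_zero.2 this
  have hdiag : ∀ a b : Fin 2 × Fin 2, (A.1 ⊗ₖ A.1) a a = (A.1 ⊗ₖ A.1) b b := fun a b => by
    have := congrFun (congrFun (hc (Matrix.single a b 1)) a) b
    simp at this
    exact this.symm
  have hd := det_eq A
  have e01 : A.1 0 1 = 0 := by simpa using hoff (0, 0) (1, 1) (by decide)
  have e10 : A.1 1 0 = 0 := by simpa using hoff (1, 1) (0, 0) (by decide)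
  have e00 := hdiag (0, 0) (0, 1)
  simp at e00
  rw [e01, zero_mul, sub_zero] at hd
  have h00 : A.1 0 0 ≠ 0 := left_ne_zero_of_mul_eq_one hd
  have e11 : A.1 0 0 = A.1 1 1 := e00.resolve_right h00
  rw [← e11] at hd
  rcases mul_self_eq_one_iff.1 hd with e | e
  · left; apply Subtype.ext; ext i j; fin_cases i <;> fin_cases j <;> simp [e01, e10, ← e11, e]
  · right; apply Subtype.ext; ext i j; fin_cases i <;> fin_cases j <;> simp [e01, e10, ← e11, e]

variable {G : Subgroup (MulAut (Mod (Fin 2 × Fin 2) E))}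

theorem right_pow_eq_one_three {x : Ext G} {A : SL2 E} (hA : (x.right : MulAut _) = actThree E f A) {n : ℕ}
    (h : A ^ n = 1 ∨ A ^ n = -1) : x.right ^ n = 1 := by
  apply Subtype.ext
  rw [SubmonoidClass.coe_pow, hA, ← map_pow, actThree_eq_one_of_pm f h]
  rfl

/-- The exponent arithmetic of a fixed vector. -/
theorem exponent_cases {K : Type*} [Field K] [CharP K 3] {q : ℕ} (hq2 : 2 ∣ q + 1)
    (hqe : ∃ e, q = 3 ^ e) (hq5 : q % 5 = 1 ∨ q % 5 = 4) {b : K} (hb : b ≠ 0)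
    (hqq : b ^ (q * q) = b ∨ b ^ (q * q) = b⁻¹)
    (hrel : (b ^ q = b ∨ b ^ q = 1 ∨ b ^ q = b⁻¹) ∨ (b ^ (2 * q) = b ∨ b ^ (2 * q) = 1 ∨ b ^ (2 * q) = b⁻¹)) :
    b ^ (q - 1) = 1 ∨ b ^ (q + 1) = 1 := by
  obtain ⟨e, he⟩ := hqe
  have hinj : ∀ {u : K}, u ^ q = 1 → u = 1 := fun {u} h => by
    have h0 : (u - 1) ^ 3 ^ e = 0 := by rw [sub_pow_char_pow, one_pow, ← he, h, sub_self]
    exact sub_eq_zero.1 (pow_eq_zero_iff (pow_ne_zero e (by norm_num)) |>.1 h0)
  have hmul : ∀ {n : ℕ}, b ^ n = b → b ^ (n - 1) = 1 := fun {n} h => by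
    rcases Nat.eq_zero_or_pos n with rfl | hn
    · simp
    · apply mul_right_cancel₀ hb
      rw [← pow_succ, Nat.sub_add_cancel hn, h, one_mul]
  rcases hrel with (h | h | h) | h
  · exact Or.inl (hmul h)
  · exact Or.inl (by rw [hinj h, one_pow])
  · exact Or.inr (by rw [pow_succ, h, inv_mul_cancel₀ hb])
  · have h35 : b ^ 2 = 1 ∨ b ^ 3 = 1 ∨ b ^ 5 = 1 := by
      have e1 : (b ^ (2 * q)) ^ q = (b ^ (q * q)) ^ 2 := by rw [← pow_mul, ← pow_mul]; ring_nf
      have e2 : b ^ (2 * q) = (b ^ q) ^ 2 := by rw [← pow_mul, mul_comm]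
      rcases h with h | h | h
      · rw [h] at e1 e2
        rw [e1] at e2
        rcases hqq with g | g <;> rw [g] at e2
        · right; left
          apply mul_right_cancel₀ hb
          rw [one_mul, ← pow_succ]
          exact (e2.trans (by ring)).symm
        · right; right
          have : b * (b ^ 4) = 1 := by
            conv_lhs => arg 1; rw [e2]
            field_simp
          rw [← this]; ring
      · exact Or.inl (hinj (by rw [← pow_mul]; exact h))
      · rw [h, inv_pow] at e1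
        rw [h] at e2
        have e3 : b ^ q = ((b ^ (q * q)) ^ 2)⁻¹ := by rw [← e1, inv_inv]
        rw [e3] at e2
        rcases hqq with g | g <;> rw [g] at e2
        · right; left
          have : b⁻¹ * b ^ 4 = 1 := by
            conv_lhs => arg 1; rw [e2]
            field_simp
          rw [← this]; field_simp
        · right; right
          have : b * b⁻¹ = 1 := mul_inv_cancel₀ hb
          calc b ^ 5 = b * b ^ 4 := by ring
            _ = b * b⁻¹ := by rw [e2]; simp [← pow_mul]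
            _ = 1 := this
    rcases h35 with h | h | h
    · right
      obtain ⟨k, hk⟩ := hq2
      rw [hk, pow_mul, h, one_pow]
    · left
      have h0 : (b - 1) ^ 3 = 0 := by rw [sub_pow_char, one_pow, h, sub_self]
      rw [sub_eq_zero.1 (pow_eq_zero_iff (by norm_num) |>.1 h0), one_pow]
    · rcases hq5 with h5 | h5
      · left
        obtain ⟨k, hk⟩ : 5 ∣ q - 1 := by omega
        rw [hk, pow_mul, h, one_pow]
      · right
        obtain ⟨k, hk⟩ : 5 ∣ q + 1 := by omega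
        rw [hk, pow_mul, h, one_pow]

theorem cancel_plus {K : Type*} [Field K] (a y : K) (hy : y ≠ 0) (h : a * a * y * y = 1) :
    a * a * (y⁻¹ * (y * y * y)) = 1 := by
  field_simp
  linear_combination h

theorem cancel_minus {K : Type*} [Field K] (a y : K) (hy : y ≠ 0) (_ : a ≠ 0) (h : y * y = a * a) :
    a * a * (y * (y⁻¹ * y⁻¹ * y⁻¹)) = 1 := by
  field_simp
  linear_combination -h

theorem map_kronecker {R S : Type*} [CommRing R] [CommRing S] (φ : R →+* S) {l m : Type*}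
    (A : Matrix l l R) (B : Matrix m m R) : (A ⊗ₖ B).map φ = A.map φ ⊗ₖ B.map φ := by
  ext ⟨i, j⟩ ⟨k, k'⟩
  simp

/-- A fixed vector confines the eigenvalue. -/
theorem exists_exponent (hodd : 2 ∣ 3 ^ f + 1) (hq5 : 3 ^ f % 5 = 1 ∨ 3 ^ f % 5 = 4) {A : SL2 E}
    (h4 : tr A ^ 2 ≠ 4) (hN : A ^ ((3 ^ f) ^ 2 - 1) = 1 ∨ A ^ ((3 ^ f) ^ 2 + 1) = 1)
    {X : Matrix (Fin 2 × Fin 2) (Fin 2 × Fin 2) E} (hX : X ≠ 0)
    (h : (A.1 ⊗ₖ A.1) * X * ((conj E 3 f A).1 ⊗ₖ (conj E 3 (f + 1) A).1)ᵀ = X) :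
    ∃ m, (m = 3 ^ f + 1 ∨ m = 3 ^ f - 1) ∧ A ^ (2 * m) = 1 := by
  let K := AlgebraicClosure E
  let φ : E →+* K := algebraMap E K
  haveI : CharP K 3 := charP_of_injective_ringHom φ.injective 3
  obtain ⟨c, hc⟩ := exists_root φ A
  have hc0 : c ≠ 0 := root_ne_zero φ hc
  obtain ⟨P, hP, hAP⟩ := exists_diag (A.1.map φ) (root_ne_inv φ hc h4)
    (by rw [← add_inv_root φ hc, tr, map_add]; rfl)
    (by rw [mul_inv_cancel₀ hc0, ← RingHom.mapMatrix_apply, ← RingHom.map_det]; simp [A.2])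
  let Φ : K →+* K := iterateFrobenius K 3 f
  let Ψ : K →+* K := iterateFrobenius K 3 (f + 1)
  set d : Fin 2 → K := ![c, c⁻¹] with hd
  have hmap : ∀ k, (conj E 3 k A).1.map φ = (A.1.map φ).map (iterateFrobenius K 3 k) := fun k => by
    ext i j
    simp [conj_apply, iterateFrobenius_def]
  have hΦd : ∀ Θ : K →+* K, (A.1.map φ).map Θ * P.map Θ = P.map Θ * Matrix.diagonal (fun i => Θ (d i)) := by
    intro Θ
    rw [← Matrix.map_mul, hAP, Matrix.map_mul, Matrix.diagonal_map (map_zero Θ)]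
  have hU : ∀ Θ : K →+* K, IsUnit (P.map Θ) := fun Θ => by
    have := hP.map Θ.mapMatrix
    simpa using this
  have hkron : ∀ {R S : Matrix (Fin 2) (Fin 2) K}, IsUnit R → IsUnit S → IsUnit (R ⊗ₖ S) := by
    intro R S hR hS
    rw [Matrix.isUnit_iff_isUnit_det] at hR hS ⊢
    rw [Matrix.det_kronecker]
    exact (hR.pow _).mul (hS.pow _)
  have hX' : X.map φ ≠ 0 := fun e => hX (Matrix.map_injective φ.injective
    (e.trans (Matrix.map_zero φ (map_zero φ)).symm))
  have h' := congrArg (fun Z => Z.map φ) h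
  beta_reduce at h'
  rw [Matrix.map_mul, Matrix.map_mul, Matrix.transpose_map, map_kronecker, map_kronecker, hmap, hmap] at h'
  have e1 : ∀ {R S R' S' : Matrix (Fin 2) (Fin 2) K} {r s : Fin 2 → K},
      R * R' = R' * Matrix.diagonal r → S * S' = S' * Matrix.diagonal s →
      (R ⊗ₖ S) * (R' ⊗ₖ S') = (R' ⊗ₖ S') * Matrix.diagonal (fun ij => r ij.1 * s ij.2) := by
    intro R S R' S' r s hr hs
    rw [← Matrix.mul_kronecker_mul, hr, hs, Matrix.mul_kronecker_mul, Matrix.diagonal_kronecker_diagonal]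
  obtain ⟨⟨i, j⟩, ⟨k, l⟩, hprod⟩ := exists_prod_eq_one (hkron hP hP) (hkron (hU Φ) (hU Ψ))
    (e1 hAP hAP) (e1 (hΦd Φ) (hΦd Ψ)) hX' h'
  set q := 3 ^ f with hq
  have hΦ : ∀ x : K, Φ x = x ^ q := fun x => iterateFrobenius_def 3 f x
  have hΨ : ∀ x : K, Ψ x = x ^ (3 * q) := fun x => by
    rw [hq, ← pow_succ']; exact iterateFrobenius_def 3 (f + 1) x
  simp only [hΦ, hΨ] at hprod
  set b := c ^ 2 with hb
  have hb0 : b ≠ 0 := pow_ne_zero _ hc0
  have hqq : b ^ (q * q) = b ∨ b ^ (q * q) = b⁻¹ := by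
    have hq1 : 1 ≤ q * q := Nat.mul_pos (Nat.pow_pos (by norm_num)) (Nat.pow_pos (by norm_num))
    rw [pow_two q] at hN
    rcases hN with h | h <;> rw [pow_eq_one_iff_root φ hc h4] at h <;> rw [hb, pow_right_comm]
    · left
      have e : c ^ (q * q) = c := by rw [← Nat.sub_add_cancel hq1, pow_succ, h, one_mul]
      rw [e]
    · right
      have e : c ^ (q * q) = c⁻¹ := eq_inv_of_mul_eq_one_left (by rwa [← pow_succ])
      rw [e, inv_pow]
  have hleft : d i * d j = b ∨ d i * d j = 1 ∨ d i * d j = b⁻¹ := by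
    fin_cases i <;> fin_cases j <;> simp [hd, hb, pow_two, hc0, mul_inv]
  have hright : d k ^ q * d l ^ (3 * q) = b ^ (2 * q) ∨ d k ^ q * d l ^ (3 * q) = (b ^ (2 * q))⁻¹ ∨
      d k ^ q * d l ^ (3 * q) = b ^ q ∨ d k ^ q * d l ^ (3 * q) = (b ^ q)⁻¹ := by
    have e4 : c ^ q * c ^ (3 * q) = b ^ (2 * q) := by rw [hb, ← pow_mul, ← pow_add]; congr 1; ring
    have e3 : c ^ (3 * q) = c ^ q * b ^ q := by rw [hb, ← pow_mul, ← pow_add]; congr 1; ring
    have hq0 : c ^ q ≠ 0 := pow_ne_zero _ hc0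
    fin_cases k <;> fin_cases l
    · left; simpa [hd] using e4
    · right; right; right
      show c ^ q * c⁻¹ ^ (3 * q) = _
      rw [inv_pow, e3, mul_inv, ← mul_assoc, mul_inv_cancel₀ hq0, one_mul]
    · right; right; left
      show c⁻¹ ^ q * c ^ (3 * q) = _
      rw [inv_pow, e3, inv_mul_cancel_left₀ hq0]
    · right; left
      show c⁻¹ ^ q * c⁻¹ ^ (3 * q) = _
      rw [inv_pow, inv_pow, ← mul_inv, e4]
  have hrel : (b ^ q = b ∨ b ^ q = 1 ∨ b ^ q = b⁻¹) ∨
      (b ^ (2 * q) = b ∨ b ^ (2 * q) = 1 ∨ b ^ (2 * q) = b⁻¹) := by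
    have h2 : d k ^ q * d l ^ (3 * q) = (d i * d j)⁻¹ := (inv_eq_of_mul_eq_one_right hprod).symm
    have hz : ∀ y : K, (d k ^ q * d l ^ (3 * q) = y ∨ d k ^ q * d l ^ (3 * q) = y⁻¹) →
        y = b ∨ y = 1 ∨ y = b⁻¹ := by
      intro y hy
      have hy' : y = (d i * d j)⁻¹ ∨ y = d i * d j := by
        rcases hy with g | g
        · exact Or.inl (g.symm.trans h2)
        · right
          have h3 := congrArg (fun z : K => z⁻¹) (g.symm.trans h2)
          exact (inv_inv y).symm.trans (h3.trans (inv_inv _))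
      rcases hleft with e | e | e <;> rcases hy' with h3 | h3 <;> rw [e] at h3 <;> rw [h3] <;>
        first | simp | exact Or.inl (inv_inv b)
    rcases hright with g | g | g | g
    · exact Or.inr (hz _ (Or.inl g))
    · exact Or.inr (hz _ (Or.inr g))
    · exact Or.inl (hz _ (Or.inl g))
    · exact Or.inl (hz _ (Or.inr g))
  rcases exponent_cases hodd ⟨f, rfl⟩ hq5 hb0 hqq hrel with h | h
  · exact ⟨q - 1, Or.inr rfl, (pow_eq_one_iff_root φ hc h4 _).2 (by rw [pow_mul, ← hb, h])⟩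
  · exact ⟨q + 1, Or.inl rfl, (pow_eq_one_iff_root φ hc h4 _).2 (by rw [pow_mul, ← hb, h])⟩

variable [Finite E]

/-- The element orders are bounded. -/
theorem orderOf_three (hf : 2 ∣ f) (hE : Nat.card E = (3 ^ f) ^ 2) {x : Ext G} {A : SL2 E}
    (hA : (x.right : MulAut _) = actThree E f A) : orderOf x ∈ Spec 3 (3 ^ f) := by
  have hodd : 3 ^ f % 2 = 1 := by rw [Nat.pow_mod]; norm_num
  have hodd2 : (3 ^ f) ^ 2 % 2 = 1 := by rw [Nat.pow_mod, hodd]
  have hq5 : 3 ^ f % 5 = 1 ∨ 3 ^ f % 5 = 4 := by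
    obtain ⟨k, rfl⟩ := hf
    rw [pow_mul, Nat.pow_mod]
    norm_num
    have aux : ∀ j : ℕ, 4 ^ j % 5 = 1 ∨ 4 ^ j % 5 = 4 := fun j => by
      induction j with
      | zero => simp
      | succ j ih => rw [pow_succ, Nat.mul_mod]; rcases ih with h | h <;> rw [h] <;> norm_num
    exact aux k
  have h2 : (2 : E) ≠ 0 := fun h => by
    have := (CharP.cast_eq_zero_iff E 3 2).1 (by exact_mod_cast h)
    omega
  by_cases h3 : A ^ 3 = 1 ∨ A ^ 3 = -1
  · exact mem_spec_of_pow mem_spec₉ (pow_mul_char 3 (right_pow_eq_one_three f hA h3) : x ^ (3 * 3) = 1)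
  have h4 : tr A ^ 2 ≠ 4 := fun e => h3 (pow_char_of_tr_sq 3 e)
  have hN : A ^ ((3 ^ f) ^ 2 - 1) = 1 ∨ A ^ ((3 ^ f) ^ 2 + 1) = 1 := by
    rcases pow_card_cases 3 A with h | h | h
    · exact Or.inl (hE ▸ h)
    · exact Or.inr (hE ▸ h)
    · exact absurd h h3
  by_cases hfix : ∃ w : Mod (Fin 2 × Fin 2) E, w ≠ 1 ∧ (x.right : MulAut _) w = w
  · obtain ⟨w, hw1, hw⟩ := hfix
    rw [hA] at hw
    obtain ⟨m, hm, hAm⟩ := exists_exponent f (by omega) hq5 h4 hN (X := w.toAdd)
      (fun e => hw1 (Multiplicative.toAdd.injective e)) (congrArg Multiplicative.toAdd hw)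
    refine mem_spec_of_pow (mem_spec₃ hm) (pow_mul_char 3 (right_pow_eq_one_three f hA ?_))
    have := eq_pm_of_sq h2 (Dvd.intro m rfl) hAm
    rwa [Nat.mul_div_cancel_left _ two_pos] at this
  push Not at hfix
  have hfree : ∀ w : Mod (Fin 2 × Fin 2) E, (x.right : MulAut _) w = w → w = 1 := fun w hw => by
    by_contra h
    exact hfix w h hw
  rcases hN with h | h
  · exact mem_spec_of_pow mem_spec₂ (pow_eq_one_of_free (right_pow_eq_one_three f hA
      (eq_pm_of_sq h2 (by omega) h)) hfree)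
  · exact mem_spec_of_pow mem_spec₁ (pow_eq_one_of_free (right_pow_eq_one_three f hA
      (eq_pm_of_sq h2 (by omega) h)) hfree)

end Setup

/-- Characteristic three, `q` a square. -/
theorem exists_twist_three [Fact (Nat.Prime 3)] (f : ℕ) (hf : 1 ≤ f) (hf2 : 2 ∣ f) :
    ∃ (G : Subgroup (MulAut (Mod (Fin 2 × Fin 2) (GaloisField 3 (2 * f))))),
      Set.range (orderOf : Ext G → ℕ) = Spec 3 (3 ^ f) := by
  classical
  set E := GaloisField 3 (2 * f)
  have hE : Nat.card E = (3 ^ f) ^ 2 := card_galois 3 f hf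
  let G := (actThree E f).range
  have hG : ∀ A, actThree E f A ∈ G := fun A => ⟨A, rfl⟩
  obtain ⟨a, ha⟩ : ∃ a : Eˣ, orderOf a = (3 ^ f) ^ 2 - 1 := galois_gen 3 f hf
  have hq : 3 ≤ 3 ^ f := Nat.le_self_pow (by omega) 3
  have hodd : 3 ^ f % 2 = 1 := by rw [Nat.pow_mod]; norm_num
  have hodd2 : (3 ^ f) ^ 2 % 2 = 1 := by rw [Nat.pow_mod, hodd]
  have hdd : dd 3 = 2 := rfl
  have hker : ∀ (A : SL2 E) (k : ℕ), (⟨actThree E f A, hG A⟩ : G) ^ k = 1 → A ^ (2 * k) = 1 := by
    intro A k h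
    have h' := congrArg Subtype.val h
    rw [SubmonoidClass.coe_pow, ← map_pow] at h'
    rw [show 2 * k = k * 2 from mul_comm 2 k, pow_mul]
    rcases pm_of_actThree_eq_one f h' with h'' | h'' <;> rw [h''] <;> simp
  have torus : ∀ N, (N = (3 ^ f) ^ 2 - 1 ∨ N = (3 ^ f) ^ 2 + 1) → ∃ x : Ext G, N / dd 3 ∣ orderOf x := by
    intro N hN
    obtain ⟨A, hA⟩ := GLOrder.exists_orderOf_SL_two (F := E) (d := N) (by
      rw [hE]; rcases hN with rfl | rfl <;> simp)
    refine ⟨SemidirectProduct.inr ⟨actThree E f A, hG A⟩, ?_⟩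
    rw [orderOf_inr, hdd]
    have h := orderOf_dvd_of_pow_eq_one (hker A _ (pow_orderOf_eq_one _))
    rw [hA] at h
    obtain ⟨c, hc⟩ : 2 ∣ N := by omega
    rw [hc] at h ⊢
    rw [Nat.mul_div_cancel_left _ two_pos]
    exact Nat.dvd_of_mul_dvd_mul_left two_pos h
  have key : ∀ (u : Eˣ) (m : ℕ), orderOf u = 2 * m → (m = 3 ^ f + 1 ∨ m = 3 ^ f - 1) →
      ∀ k l : Fin 2, (u : E) * u * ((![(u : E), ((u⁻¹ : Eˣ) : E)] k) ^ 3 ^ f *
        (![(u : E), ((u⁻¹ : Eˣ) : E)] l) ^ 3 ^ (f + 1)) = 1 → ∃ x : Ext G, 3 * m ∣ orderOf x := by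
    intro u m hu hm k l hfix
    set A := GLOrder.diagS E u with hA
    have hord : orderOf (⟨actThree E f A, hG A⟩ : G) = m := by
      refine Nat.dvd_antisymm (orderOf_dvd_of_pow_eq_one (Subtype.ext ?_)) ?_
      · rw [SubmonoidClass.coe_pow, ← map_pow]
        refine actThree_eq_one_of_pm f ?_
        have h2 : (2 : E) ≠ 0 := fun h => by
          have := (CharP.cast_eq_zero_iff E 3 2).1 (by exact_mod_cast h)
          omega
        have := eq_pm_of_sq h2 (Dvd.intro m rfl) (show A ^ (2 * m) = 1 by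
          rw [hA, ← map_pow, ← hu, pow_orderOf_eq_one, map_one])
        rwa [Nat.mul_div_cancel_left _ two_pos] at this
      · refine Nat.dvd_of_mul_dvd_mul_left two_pos ?_
        rw [← hu]
        refine orderOf_dvd_of_pow_eq_one (GLOrder.diagS_injective ?_)
        rw [map_pow, map_one, ← hA]
        exact hker A _ (pow_orderOf_eq_one _)
    have hcop : Nat.Coprime 3 m := by
      rw [Nat.Prime.coprime_iff_not_dvd Fact.out]
      have h3 : 3 ∣ 3 ^ f := dvd_pow_self 3 (by omega)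
      omega
    have hdiag : A.1 = Matrix.diagonal ![(u : E), ((u⁻¹ : Eˣ) : E)] := by
      ext i j; fin_cases i <;> fin_cases j <;> simp [hA, diagS_val]
    have hconj : ∀ n, (conj E 3 n A).1 = Matrix.diagonal (fun i => (![(u : E), ((u⁻¹ : Eˣ) : E)] i) ^ 3 ^ n) := by
      intro n
      ext i j
      rw [conj_apply, hdiag]
      by_cases hij : i = j <;> simp [hij]
    let w : Mod (Fin 2 × Fin 2) E := Multiplicative.ofAdd (Matrix.single (0, 0) (k, l) 1)
    have hw1 : w ≠ 1 := fun e => by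
      have h' : Matrix.single ((0 : Fin 2), (0 : Fin 2)) (k, l) (1 : E) = 0 :=
        congrArg Multiplicative.toAdd e
      simpa using congrFun (congrFun h' (0, 0)) (k, l)
    have hw : actThree E f A w = w := by
      rw [actThree_apply, hdiag, hconj, hconj, Matrix.diagonal_kronecker_diagonal,
        Matrix.diagonal_kronecker_diagonal, Matrix.diagonal_transpose]
      congr 1
      ext i j
      rw [Matrix.mul_diagonal, Matrix.diagonal_mul, Matrix.single_apply]
      split_ifs with hij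
      · obtain ⟨rfl, rfl⟩ := hij
        simpa using hfix
      · simp
    obtain ⟨x, hx⟩ := exists_orderOf_fixed 3 (g := (⟨_, hG A⟩ : G)) hw1 hw (by rwa [hord])
    exact ⟨x, by rw [hx, hord]⟩
  refine ⟨G, eq_spec 3 (3 ^ f) ?_ ?_ ?_ ?_ ?_ (fun e => absurd e (by norm_num)) ?_⟩
  · intro x
    obtain ⟨A, hA⟩ := x.right.2
    exact orderOf_three f hf2 hE hA.symm
  · exact torus _ (Or.inr rfl)
  · exact torus _ (Or.inl rfl)
  · obtain ⟨k, hk⟩ : 2 ∣ 3 ^ f - 1 := by omega
    have e : (3 ^ f) ^ 2 - 1 = 2 * (3 ^ f + 1) * k := by rw [sq_sub_one_eq, hk]; ring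
    have hu : orderOf (a ^ k) = 2 * (3 ^ f + 1) := by
      rw [orderOf_pow_of_dvd (by omega) (by rw [ha, e]; exact Dvd.intro_left _ rfl), ha, e,
        Nat.mul_div_cancel _ (by omega)]
    refine key (a ^ k) (3 ^ f + 1) hu (Or.inl rfl) 1 0 ?_
    have h1 : (a ^ k : Eˣ) ^ (2 * (3 ^ f + 1)) = 1 := hu ▸ pow_orderOf_eq_one _
    generalize a ^ k = v at h1 ⊢
    have h1' : (v : E) ^ (2 * (3 ^ f + 1)) = 1 := by rw [← Units.val_pow_eq_pow_val, h1, Units.val_one]
    have hv : (v : E) ^ 3 ^ f ≠ 0 := pow_ne_zero _ v.ne_zero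
    simp [pow_succ, pow_mul]
    rw [show 2 * (3 ^ f + 1) = 1 + 1 + 3 ^ f + 3 ^ f by ring, pow_add, pow_add, pow_add, pow_one] at h1'
    exact cancel_plus _ _ hv h1'
  · obtain ⟨k, hk⟩ : 2 ∣ 3 ^ f + 1 := by omega
    have e : (3 ^ f) ^ 2 - 1 = 2 * (3 ^ f - 1) * k := by rw [sq_sub_one_eq, hk]; ring
    have hu : orderOf (a ^ k) = 2 * (3 ^ f - 1) := by
      rw [orderOf_pow_of_dvd (by omega) (by rw [ha, e]; exact Dvd.intro_left _ rfl), ha, e,
        Nat.mul_div_cancel _ (by omega)]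
    refine key (a ^ k) (3 ^ f - 1) hu (Or.inr rfl) 0 1 ?_
    have h1 : (a ^ k : Eˣ) ^ (2 * (3 ^ f - 1)) = 1 := hu ▸ pow_orderOf_eq_one _
    generalize a ^ k = v at h1 ⊢
    have h1' : ((v : E) ^ 2) ^ 3 ^ f = (v : E) ^ 2 := by
      rw [show 3 ^ f = (3 ^ f - 1) + 1 by omega, pow_succ, ← pow_mul, ← Units.val_pow_eq_pow_val, h1,
        Units.val_one, one_mul]
    rw [pow_two, mul_pow] at h1'
    have hv : (v : E) ^ 3 ^ f ≠ 0 := pow_ne_zero _ v.ne_zero
    simp [pow_succ, pow_mul]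
    exact cancel_minus _ _ hv v.ne_zero h1'
  · intro _
    let U : SL2 E := mkSL 1 1 0 1 (by ring)
    have hUp : ∀ i : ℕ, (U ^ i).1 = !![1, (i : E); 0, 1] := by
      intro i
      induction i with
      | zero => simp [Matrix.one_fin_two]
      | succ i ih =>
        rw [pow_succ, Matrix.SpecialLinearGroup.coe_mul, ih, mkSL_val, Matrix.mul_fin_two]
        simp [add_comm]
    have hUc : ∀ n i : ℕ, (conj E 3 n (U ^ i)).1 = (U ^ i).1 := by
      intro n i
      ext r s
      rw [conj_apply, hUp]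
      fin_cases r <;> fin_cases s <;> simp [← iterateFrobenius_def]
      all_goals exact map_natCast _ _
    let v : Mod (Fin 2 × Fin 2) E := Multiplicative.ofAdd (Matrix.single (1, 1) (1, 1) 1)
    let x : Ext G := SemidirectProduct.inl v * SemidirectProduct.inr ⟨actThree E f U, hG U⟩
    have hxl : x.left = v := by simp [x]
    have hxr : (x.right : MulAut _) = actThree E f U := by simp [x]
    refine ⟨x, dvd_of_eq (orderOf_eq_prime_pow (p := 3) (n := 1) ?_ ?_).symm⟩
    · intro h1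
      have hl := congrArg (fun z : Ext G => z.left.toAdd (0, 0) (1, 1)) h1
      simp only [SemidirectProduct.one_left, toAdd_one, Matrix.zero_apply] at hl
      rw [pow_left, pow_one, Finset.sum_range_succ, Finset.sum_range_succ, Finset.sum_range_succ,
        Finset.sum_range_zero, hxl] at hl
      simp only [SubmonoidClass.coe_pow, hxr, ← map_pow, v, actThree_apply, toAdd_ofAdd, hUc, hUp,
        Matrix.add_apply, Matrix.zero_apply] at hl
      simp [Matrix.mul_apply, Fintype.sum_prod_type, Fin.sum_univ_two, Matrix.single_apply] at hl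
      have h3 : (3 : E) = 0 := by exact_mod_cast CharP.cast_eq_zero E 3
      have h2 : (2 : E) = 0 := by linear_combination hl - h3
      have := (CharP.cast_eq_zero_iff E 3 2).1 (by exact_mod_cast h2)
      omega
    · refine pow_mul_char 3 (right_pow_eq_one_three f hxr (Or.inl ?_))
      apply Subtype.ext
      rw [hUp, CharP.cast_eq_zero, Matrix.SpecialLinearGroup.coe_one, Matrix.one_fin_two]

end Cfsg.Agent.SpecPSpFour
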